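import Cfsg.Agent.H13.Intrinsic.Tools
import Cfsg.Agent.Coprime.Basic

/-!
The image of a 2-component with a unique involution modulo the odd core.
-/

set_option autoImplicit false
set_option linter.style.haveILetI false

namespace Cfsg.Agent.H13.Intrinsic

open Subgroup
open scoped commutatorElement

variable {G : Type*} [Group G]

/-- The image of `K` in `C(u) / O(C(u))`. -/
abbrev bar (u : G) (K : Subgroup G) : Subgroup (↥(cen u) ⧸ Cfsg.pPrimeCore 2 ↥(cen u)) :=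
  (K.subgroupOf (cen u)).map (qc u)

/-- A perfect group inside `A C(A)` centralised by `Z` lies in `C_A(Z) C(A)`. -/
theorem le_fixed_sup {X : Type*} [Group X] {A V : Subgroup X} {Z : X}
    (hZ : Z ∈ normalizer (A : Set X)) (hV : ⁅V, V⁆ = V)
    (hle : V ≤ A ⊔ centralizer (A : Set X)) (hVZ : ∀ e ∈ V, Commute Z e) :
    V ≤ (A ⊓ centralizer ({Z} : Set X)) ⊔ centralizer (A : Set X) := by
  have hC : centralizer (A : Set X) ≤ normalizer (A : Set X) := fun c hc => by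
    rw [mem_normalizer_iff]
    intro t
    constructor
    · intro ht
      rwa [← mem_centralizer_iff.1 hc t ht, mul_inv_cancel_right]
    · intro ht
      have h : c⁻¹ * (c * t * c⁻¹) * c = c * t * c⁻¹ := by
        rw [mul_assoc, mem_centralizer_iff.1 hc _ ht, inv_mul_cancel_left]
      rw [show c⁻¹ * (c * t * c⁻¹) * c = t by group] at h
      exact h ▸ ht
  have dec : ∀ e ∈ V, ∃ k ∈ A, ∃ c ∈ centralizer (A : Set X), k * c = e ∧
      ∃ ζ ∈ A, ζ ∈ centralizer (A : Set X) ∧ Z * k * Z⁻¹ = k * ζ := by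
    intro e he
    obtain ⟨k, hk, c, hc, hkc⟩ := (Coprime.mem_sup_iff hC).1 (hle he)
    refine ⟨k, hk, c, hc, hkc, k⁻¹ * (Z * k * Z⁻¹),
      A.mul_mem (A.inv_mem hk) ((mem_normalizer_iff.1 hZ k).1 hk), ?_, by group⟩
    have hZc : Z * c * Z⁻¹ ∈ centralizer (A : Set X) := by
      rw [mem_centralizer_iff]
      intro t ht
      have h1 : Z⁻¹ * t * Z ∈ A := by
        have := (mem_normalizer_iff.1 (inv_mem hZ) t).1 ht
        rwa [inv_inv] at this
      calc t * (Z * c * Z⁻¹) = Z * ((Z⁻¹ * t * Z) * c) * Z⁻¹ := by group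
        _ = Z * c * Z⁻¹ * t := by rw [mem_centralizer_iff.1 hc _ h1]; group
    have e1 : k⁻¹ * (Z * k * Z⁻¹) = c * (Z * c * Z⁻¹)⁻¹ := by
      calc k⁻¹ * (Z * k * Z⁻¹) = k⁻¹ * ((Z * (k * c) * Z⁻¹) * (Z * c * Z⁻¹)⁻¹) := by group
        _ = c * (Z * c * Z⁻¹)⁻¹ := by rw [hkc, (hVZ e he).eq, ← hkc]; group
    rw [e1]
    exact mul_mem hc (inv_mem hZc)
  conv_lhs => rw [← hV]
  rw [commutator_le]
  intro e1 he1 e2 he2
  obtain ⟨k1, hk1, c1, hc1, rfl, ζ1, hζ1, hζ1', h1⟩ := dec e1 he1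
  obtain ⟨k2, hk2, c2, hc2, rfl, ζ2, hζ2, hζ2', h2⟩ := dec e2 he2
  have hcm : ∀ t ∈ A, ∀ c ∈ centralizer (A : Set X), Commute t c :=
    fun t ht c hc => mem_centralizer_iff.1 hc t ht
  have hkey : ⁅k1 * c1, k2 * c2⁆ = ⁅k1, k2⁆ * ⁅c1, c2⁆ := by
    have e := (hcm k2 hk2 c1 hc1).symm.mul_mul_mul_comm k1 c2
    have e' := (hcm k1 hk1 c2 hc2).symm.mul_mul_mul_comm k2 c1
    have h3 : Commute (k2 * k1) (c1 * c2 * (c2 * c1)⁻¹) :=
      hcm _ (mul_mem hk2 hk1) _ (mul_mem (mul_mem hc1 hc2) (inv_mem (mul_mem hc2 hc1)))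
    calc ⁅k1 * c1, k2 * c2⁆ = (k1 * c1 * (k2 * c2)) * (k2 * c2 * (k1 * c1))⁻¹ := by
          rw [commutatorElement_def]; group
      _ = k1 * k2 * ((c1 * c2 * (c2 * c1)⁻¹) * (k2 * k1)⁻¹) := by rw [e, e']; group
      _ = k1 * k2 * ((k2 * k1)⁻¹ * (c1 * c2 * (c2 * c1)⁻¹)) := by rw [h3.inv_left.eq]
      _ = _ := by simp only [commutatorElement_def]; group
  rw [hkey]
  refine mul_mem (mem_sup_left ⟨?_, mem_centralizer_singleton_iff.2 ?_⟩) (mem_sup_right ?_)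
  · rw [commutatorElement_def]
    exact A.mul_mem (A.mul_mem (A.mul_mem hk1 hk2) (A.inv_mem hk1)) (A.inv_mem hk2)
  · have hfix : Z * ⁅k1, k2⁆ * Z⁻¹ = ⁅k1, k2⁆ := by
      have a := (hcm k2 hk2 ζ1 hζ1').symm.mul_mul_mul_comm k1 ζ2
      have a' := (hcm k1 hk1 ζ2 hζ2').symm.mul_mul_mul_comm k2 ζ1
      calc Z * ⁅k1, k2⁆ * Z⁻¹
          = ((Z * k1 * Z⁻¹) * (Z * k2 * Z⁻¹)) * ((Z * k2 * Z⁻¹) * (Z * k1 * Z⁻¹))⁻¹ := by
            rw [commutatorElement_def]; group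
        _ = (k1 * k2 * (ζ1 * ζ2)) * (k2 * k1 * (ζ1 * ζ2))⁻¹ := by
            rw [h1, h2, a, a', (hcm ζ1 hζ1 ζ2 hζ2').eq]
        _ = ⁅k1, k2⁆ := by rw [commutatorElement_def]; group
    exact (mul_inv_eq_iff_eq_mul.1 hfix).symm
  · rw [commutatorElement_def]
    exact mul_mem (mul_mem (mul_mem hc1 hc2) (inv_mem hc1)) (inv_mem hc2)

variable [Finite G] {u : G} {K : Subgroup G}

theorem bar_comp (hK : Intr u K) : Cfsg.IsComponent (bar u K) := hK.comp.2.1

/-- A 2-element of the image of `K` commuting with the image of a 2-group lifts into `K`. -/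
theorem exists_lift (hK : Intr u K) {T : Subgroup G} (hT : IsPGroup 2 T) (hTu : T ≤ cen u)
    {f : ↥(cen u) ⧸ Cfsg.pPrimeCore 2 ↥(cen u)} (hf : f ∈ bar u K) {a : ℕ} (ha : f ^ 2 ^ a = 1)
    (hcomm : ∀ t, ∀ ht : t ∈ T, Commute f (qc u ⟨t, hTu ht⟩)) :
    ∃ r, ∃ hr : r ∈ cen u, r ∈ K ∧ qc u ⟨r, hr⟩ = f ∧ (∀ t ∈ T, Commute r t) ∧
      (∃ b : ℕ, r ^ 2 ^ b = 1) := by
  set Tb := (T.subgroupOf (cen u)).map (qc u)
  have hTb : IsPGroup 2 Tb := (hT.comap_subtype).map _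
  have hle : Tb ≤ normalizer ((zpowers f : Subgroup _) : Set _) := by
    rintro _ ⟨t, ht, rfl⟩
    refine Components.mem_normalizer_of_map_conj_eq ?_
    rw [MonoidHom.map_zpowers]
    congr 1
    show qc u t * f * (qc u t)⁻¹ = f
    rw [← (hcomm t ht).eq, mul_inv_cancel_right]
  obtain ⟨R, hR, hRu, hTR, hlift⟩ := lift_two hT hTu
    (hTb.to_sup_of_normal_right' (isP_zpowers ha) hle)
    (fun t ht => mem_sup_left ⟨⟨t, hTu ht⟩, ht, rfl⟩)
  obtain ⟨r, hr, hrR, hqr⟩ := hlift f (mem_sup_right (mem_zpowers f))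
  obtain ⟨b, hb⟩ := hR ⟨r, hrR⟩
  have hb' : r ^ 2 ^ b = 1 := congrArg Subtype.val hb
  refine ⟨r, hr, ?_, hqr, fun t ht => ?_, b, hb'⟩
  · obtain ⟨p, hp, hpf⟩ := hf
    exact hK.two_mem (a := (p : G)) hp hr b hb' (qc_eq_iff.1 (hpf.trans hqr.symm))
  · exact qc_exact hR (a := ⟨r, hr⟩ * ⟨t, hTu ht⟩) (b := ⟨t, hTu ht⟩ * ⟨r, hr⟩)
      (R.mul_mem hrR (hTR ht)) (R.mul_mem (hTR ht) hrR)
      (by rw [map_mul, map_mul, hqr]; exact (hcomm t ht).eq)

theorem qc_u_ne (hK : Intr u K) : qc u ⟨u, hK.le hK.mem⟩ ≠ 1 := by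
  intro h
  rw [← map_one (qc u), qc_eq_iff] at h
  apply hK.ne
  refine eq_one_of_two_of_core (P := zpowers u)
    (isP_zpowers (k := 1) (by rw [pow_one, pow_two, hK.sq])) (mem_zpowers u) (z := u) ?_
  simpa using (core u).inv_mem h

/-- The centre of `K / O(K)` has order 2. -/
theorem center_card (hK : Intr u K) : Nat.card (center ↥(bar u K)) = 2 := by
  haveI : Fact (Nat.Prime 2) := ⟨Nat.prime_two⟩
  let qu : ↥(bar u K) := ⟨qc u ⟨u, hK.le hK.mem⟩, ⟨_, hK.mem, rfl⟩⟩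
  have hqu : orderOf qu = 2 := by
    rw [orderOf_eq_prime_iff]
    refine ⟨Subtype.ext ?_, fun h => qc_u_ne hK (congrArg Subtype.val h)⟩
    show (qc u ⟨u, hK.le hK.mem⟩) ^ 2 = 1
    rw [← map_pow, show (⟨u, hK.le hK.mem⟩ : ↥(cen u)) ^ 2 = 1 from
      Subtype.ext (by simpa [pow_two] using hK.sq), map_one]
  suffices h : center ↥(bar u K) = zpowers qu by rw [h, Nat.card_zpowers, hqu]
  refine le_antisymm (fun f hf => ?_) ?_
  · obtain ⟨a, m, hm, hfm⟩ := Nat.exists_eq_two_pow_mul_odd (orderOf_pos f).ne'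
    have hg : f ^ 2 ^ a = 1 := by
      have hgc : f ^ 2 ^ a ∈ center ↥(bar u K) := pow_mem hf _
      haveI : (zpowers (f ^ 2 ^ a)).Normal := ⟨fun n hn g => by
        have hnc : n ∈ center ↥(bar u K) := (zpowers_le.2 hgc) hn
        rwa [mem_center_iff.1 hnc g, mul_inv_cancel_right]⟩
      have hcop : (Nat.card ↥(zpowers (f ^ 2 ^ a))).Coprime 2 := by
        rw [Nat.card_zpowers]
        refine Nat.Coprime.coprime_dvd_left ?_ (Nat.coprime_two_right.2 hm)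
        rw [orderOf_dvd_iff_pow_eq_one, ← pow_mul, ← hfm, pow_orderOf_eq_one]
      have h := Cores.le_pPrimeCore hcop
      rw [Components.pPrimeCore_component Components.pPrimeCore_quotient_eq_bot (bar_comp hK),
        le_bot_iff, zpowers_eq_bot] at h
      exact h
    obtain ⟨R, hR, -⟩ := exists_syl (z := u) (isP_zpowers (k := 1) (by rw [pow_one, pow_two, hK.sq]))
      (zpowers_le.2 (hK.le hK.mem))
    have hq := (hK.qgrp hR).1
    obtain ⟨r, hr, hrK, hqr, hrc, b, hb⟩ := exists_lift hK hq.isP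
      (inf_le_right.trans hK.le) f.2 (congrArg Subtype.val hg) (fun t ht =>
        (congrArg Subtype.val (mem_center_iff.1 hf ⟨qc u ⟨t, hK.le ht.2⟩, ⟨_, ht.2, rfl⟩⟩) :).symm)
    have hr1 : r = 1 ∨ r = u := by
      have hle : zpowers r ≤ normalizer ((R ⊓ K : Subgroup G) : Set G) := by
        rw [zpowers_le]
        refine Components.mem_normalizer_of_map_conj_eq ?_
        apply le_antisymm
        · rintro _ ⟨s, hs, rfl⟩
          show r * s * r⁻¹ ∈ R ⊓ K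
          rw [(hrc s hs).eq, mul_inv_cancel_right]
          exact hs
        · intro s hs
          exact ⟨s, hs, by show r * s * r⁻¹ = s; rw [(hrc s hs).eq, mul_inv_cancel_right]⟩
      have hP : IsPGroup 2 (zpowers r ⊔ (R ⊓ K) : Subgroup G) :=
        (isP_zpowers hb).to_sup_of_normal_right' hq.isP hle
      obtain ⟨R1, hR1, hle1⟩ := exists_syl (z := u) hP
        (sup_le (zpowers_le.2 hr) (inf_le_right.trans hK.le))
      have hq1 := (hK.qgrp hR1).1
      by_contra h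
      push Not at h
      have hr' : r ∈ R1 ⊓ K := ⟨hle1 (mem_sup_left (mem_zpowers r)), hrK⟩
      obtain ⟨n, hn⟩ := hq1.exists_pow_four hr' h.1 h.2
      obtain ⟨x, hx, y, hy, hxx, hyy, hyx⟩ := hq.exists_pair
      have hmem : ∀ s ∈ R ⊓ K, s ∈ R1 ⊓ K := fun s hs => ⟨hle1 (mem_sup_right hs), hs.2⟩
      have hcx : Commute (r ^ n) x := (hrc x hx).pow_left n
      have hcy : Commute (r ^ n) y := (hrc y hy).pow_left n
      have hxu : Commute x u := mem_cen.1 (hK.le hx.2)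
      have huy : Commute u y := (mem_cen.1 (hK.le hy.2)).symm
      have hxy : Commute x y := by
        rcases hq1.eq_or_eq_mul (pow_mem hr' n) (hmem x hx) hn hxx hcx.eq with e | e
        · exact e ▸ hcy
        · exact e ▸ hcy.mul_left huy
      rw [← hxy.eq] at hyx
      exact hK.ne (mul_eq_left.1 hyx.symm)
    rcases hr1 with e | e
    · have : f = 1 := Subtype.ext (by
        rw [← hqr, show (⟨r, hr⟩ : ↥(cen u)) = 1 from Subtype.ext e, map_one]; rfl)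
      rw [this]
      exact one_mem _
    · have : f = qu := Subtype.ext (by
        rw [← hqr, show (⟨r, hr⟩ : ↥(cen u)) = ⟨u, hK.le hK.mem⟩ from Subtype.ext e])
      rw [this]
      exact mem_zpowers _
  · rw [zpowers_le, mem_center_iff]
    intro g
    apply Subtype.ext
    obtain ⟨p, hp, hpg⟩ := g.2
    show (g : ↥(cen u) ⧸ _) * qc u _ = qc u _ * (g : ↥(cen u) ⧸ _)
    rw [← hpg, ← map_mul, ← map_mul]
    exact congrArg _ (Subtype.ext (mem_cen.1 (hK.le hp)))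

/-- `|K̄| = |K / O(K)|`. -/
theorem bar_card (hK : Intr u K) :
    Nat.card ↥(bar u K) = Nat.card (↥K ⧸ Cfsg.pPrimeCore 2 ↥K) := by
  haveI : Fact (Nat.Prime 2) := ⟨Nat.prime_two⟩
  set K' := K.subgroupOf (cen u)
  have hker : ((qc u).subgroupMap K').ker = Cfsg.pPrimeCore 2 ↥K' := by
    ext x
    rw [MonoidHom.mem_ker]
    have h1 : (x : ↥(cen u)) ∈ Cfsg.pPrimeCore 2 ↥(cen u) ⊓ K' ↔ x ∈ Cfsg.pPrimeCore 2 ↥K' := by
      rw [← Components.map_pPrimeCore_pComponent hK.comp]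
      exact ⟨fun ⟨y, hy, e⟩ => Subtype.ext e ▸ hy, fun h => ⟨x, h, rfl⟩⟩
    rw [← h1]
    constructor
    · intro h
      exact ⟨(QuotientGroup.eq_one_iff _).1 (congrArg Subtype.val h), x.2⟩
    · intro h
      exact Subtype.ext ((QuotientGroup.eq_one_iff _).2 h.1)
  have e1 := (QuotientGroup.quotientMulEquivOfEq hker.symm).trans
    (QuotientGroup.quotientKerEquivOfSurjective _ ((qc u).subgroupMap_surjective K'))
  let e : ↥K' ≃* ↥K := Subgroup.subgroupOfEquivOfLe hK.le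
  have e2 : ↥K' ⧸ Cfsg.pPrimeCore 2 ↥K' ≃* ↥K ⧸ Cfsg.pPrimeCore 2 ↥K :=
    QuotientGroup.congr _ _ e (Cores.pPrimeCore_map_mulEquiv e)
  exact (Nat.card_congr e1.toEquiv).symm.trans (Nat.card_congr e2.toEquiv)

omit [Finite G] in
theorem card_quotient_cj [Finite G] (h : G) (K : Subgroup G) :
    Nat.card (↥(cj h K) ⧸ Cfsg.pPrimeCore 2 ↥(cj h K)) = Nat.card (↥K ⧸ Cfsg.pPrimeCore 2 ↥K) := by
  let e : ↥K ≃* ↥(cj h K) := K.equivMapOfInjective _ (MulAut.conj h).injective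
  exact (Nat.card_congr (QuotientGroup.congr _ _ e (Cores.pPrimeCore_map_mulEquiv e)).toEquiv).symm

theorem core_conj_le (h : G) {o : G} (ho : o ∈ core u) : h * o * h⁻¹ ∈ core (h * u * h⁻¹) := by
  have hmap : (cen u).map (MulAut.conj h).toMonoidHom = cen (h * u * h⁻¹) := by
    ext x
    constructor
    · rintro ⟨y, hy, rfl⟩
      rw [mem_cen]
      show h * y * h⁻¹ * (h * u * h⁻¹) = h * u * h⁻¹ * (h * y * h⁻¹)
      have e := mem_cen.1 hy
      calc h * y * h⁻¹ * (h * u * h⁻¹) = h * (y * u) * h⁻¹ := by group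
        _ = h * (u * y) * h⁻¹ := by rw [e]
        _ = _ := by group
    · intro hx
      refine ⟨h⁻¹ * x * h, mem_cen.2 ?_, by simp [mul_assoc]⟩
      have e := mem_cen.1 hx
      calc h⁻¹ * x * h * u = h⁻¹ * (x * (h * u * h⁻¹)) * h := by group
        _ = h⁻¹ * (h * u * h⁻¹ * x) * h := by rw [e]
        _ = _ := by group
  let e : ↥(cen u) ≃* ↥(cen (h * u * h⁻¹)) :=
    ((cen u).equivMapOfInjective (MulAut.conj h).toMonoidHom (MulAut.conj h).injective).trans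
      (MulEquiv.subgroupCongr hmap)
  obtain ⟨o, ho, rfl⟩ := ho
  exact ⟨e o, (Cores.pPrimeCore_map_mulEquiv (p := 2) e).le ⟨o, ho, rfl⟩, rfl⟩

end Cfsg.Agent.H13.Intrinsic
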