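import Cfsg.Agent.H13.Intrinsic.Quat
import Cfsg.Agent.Components.PComponent
import Cfsg.Agent.Components.CyclicSylow
import Cfsg.Agent.H41.TwoLayer
import Cfsg.Agent.H77.Subnormal
import Cfsg.Agent.H46.PCompImage

/-!
2-components with a unique involution of an involution centralizer.
-/

set_option autoImplicit false
set_option linter.style.haveILetI false

namespace Cfsg.Agent.H13.Intrinsic

open Subgroup
open scoped commutatorElement

variable {G : Type*} [Group G]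

/-- The conjugate `g J g⁻¹`. -/
abbrev cj (g : G) (J : Subgroup G) : Subgroup G := J.map (MulAut.conj g).toMonoidHom

/-- The centralizer of an element. -/
abbrev cen (z : G) : Subgroup G := Subgroup.centralizer ({z} : Set G)

theorem mem_cen {z x : G} : x ∈ cen z ↔ x * z = z * x := by
  rw [Subgroup.mem_centralizer_singleton_iff]

theorem mem_cj {g x : G} {J : Subgroup G} : x ∈ cj g J ↔ g⁻¹ * x * g ∈ J := by
  constructor
  · rintro ⟨y, hy, rfl⟩
    simpa [mul_assoc] using hy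
  · intro h
    exact ⟨_, h, by simp [mul_assoc]⟩

theorem cj_mul (a b : G) (J : Subgroup G) : cj (a * b) J = cj a (cj b J) := by
  ext x
  rw [mem_cj, mem_cj, mem_cj]
  simp [mul_assoc]

theorem cj_one (J : Subgroup G) : cj 1 J = J := by
  ext x
  rw [mem_cj]
  simp

theorem cj_mem {g x : G} {J : Subgroup G} (h : x ∈ J) : g * x * g⁻¹ ∈ cj g J := ⟨x, h, rfl⟩

theorem cj_eq_iff {g : G} {J : Subgroup G} : cj g J = J ↔ g ∈ normalizer (J : Set G) := by
  constructor
  · intro h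
    exact Components.mem_normalizer_of_map_conj_eq h
  · intro h
    exact Components.map_conj_eq_of_mem_normalizer h

/-- The odd core of `C(z)`, as a subgroup of `G`. -/
def core (z : G) : Subgroup G := (Cfsg.pPrimeCore 2 ↥(cen z)).map (cen z).subtype

theorem core_le (z : G) : core z ≤ cen z := Subgroup.map_subtype_le _

theorem odd_core [Finite G] (z : G) : Odd (Nat.card ↥(core z)) := by
  haveI : Fact (Nat.Prime 2) := ⟨Nat.prime_two⟩
  rw [core, Nat.card_congr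
    (Subgroup.equivMapOfInjective _ _ (cen z).subtype_injective).toEquiv.symm]
  exact Nat.coprime_two_right.1 Cores.coprime_card_pPrimeCore

theorem eq_one_of_two_of_odd [Finite G] {P O : Subgroup G} (hP : IsPGroup 2 P)
    (hO : Odd (Nat.card O)) {x : G} (hx : x ∈ P) (hxO : x ∈ O) : x = 1 := by
  obtain ⟨k, hk⟩ := hP ⟨x, hx⟩
  have hk' : x ^ 2 ^ k = 1 := congrArg Subtype.val hk
  have h1 : orderOf x ∣ 2 ^ k := orderOf_dvd_of_pow_eq_one hk'
  have h2 : orderOf x ∣ Nat.card O := Subgroup.orderOf_dvd_natCard O hxO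
  exact orderOf_eq_one_iff.1
    (Nat.eq_one_of_dvd_coprimes ((Nat.coprime_two_left.2 hO).pow_left k) h1 h2)

theorem eq_one_of_two_of_core [Finite G] {P : Subgroup G} (hP : IsPGroup 2 P) {z x : G}
    (hx : x ∈ P) (hxO : x ∈ core z) : x = 1 := eq_one_of_two_of_odd hP (odd_core z) hx hxO

/-- A Sylow 2-subgroup of `C(z)`, as a subgroup of `G`. -/
structure Syl (z : G) (P : Subgroup G) : Prop where
  isP : IsPGroup 2 P
  le : P ≤ cen z
  idx : ¬ 2 ∣ P.relIndex (cen z)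

theorem exists_syl [Finite G] {z : G} {Q : Subgroup G} (hQ : IsPGroup 2 Q) (hle : Q ≤ cen z) :
    ∃ P : Subgroup G, Syl z P ∧ Q ≤ P := by
  haveI : Fact (Nat.Prime 2) := ⟨Nat.prime_two⟩
  obtain ⟨S, hS⟩ := (hQ.comap_subtype (K := cen z)).exists_le_sylow
  refine ⟨(S : Subgroup (cen z)).map (cen z).subtype,
    ⟨S.isPGroup'.map _, Subgroup.map_subtype_le _, ?_⟩,
    fun q hq => ⟨⟨q, hle hq⟩, hS hq, rfl⟩⟩
  rw [Subgroup.relIndex, Subgroup.subgroupOf, Subgroup.comap_map_eq_self_of_injective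
    (cen z).subtype_injective]
  exact S.not_dvd_index

theorem exists_syl_pair [Finite G] {z a b : G} (ha : a ∈ cen z) (hb : b ∈ cen z)
    {Q : Subgroup G} (hQ : IsPGroup 2 Q) (haQ : a ∈ Q) (hbQ : b ∈ Q) :
    ∃ P : Subgroup G, Syl z P ∧ a ∈ P ∧ b ∈ P := by
  obtain ⟨P, hP, hle⟩ := exists_syl (z := z) (hQ.to_le (inf_le_left : Q ⊓ cen z ≤ Q)) inf_le_right
  exact ⟨P, hP, hle ⟨haQ, ha⟩, hle ⟨hbQ, hb⟩⟩

/-- `J` is a 2-component of `C(z)` whose only involution is `z`. -/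
structure Intr (z : G) (J : Subgroup G) : Prop where
  sq : z * z = 1
  ne : z ≠ 1
  mem : z ∈ J
  uniq : ∀ t ∈ J, t * t = 1 → t = 1 ∨ t = z
  le : J ≤ cen z
  comp : Cfsg.IsPComponent 2 (J.subgroupOf (cen z))

namespace Intr

variable {z : G} {J : Subgroup G} (hJ : Intr z J)
include hJ

theorem perfect [Finite G] : ⁅J, J⁆ = J := by
  haveI : Fact (Nat.Prime 2) := ⟨Nat.prime_two⟩
  have h := congrArg (Subgroup.map (cen z).subtype) (Components.pComponent_perfect hJ.comp)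
  rwa [Subgroup.map_commutator, Subgroup.map_subgroupOf_eq_of_le hJ.le] at h

theorem cj_le (g : G) : cj g J ≤ cen (g * z * g⁻¹) := by
  rintro x ⟨y, hy, rfl⟩
  rw [mem_cen]
  show g * y * g⁻¹ * (g * z * g⁻¹) = g * z * g⁻¹ * (g * y * g⁻¹)
  have h := mem_cen.1 (hJ.le hy)
  calc g * y * g⁻¹ * (g * z * g⁻¹) = g * (y * z) * g⁻¹ := by group
    _ = g * (z * y) * g⁻¹ := by rw [h]
    _ = _ := by group

theorem conj [Finite G] (g : G) : Intr (g * z * g⁻¹) (cj g J) := by
  refine ⟨?_, ?_, cj_mem hJ.mem, ?_, hJ.cj_le g, ?_⟩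
  · calc g * z * g⁻¹ * (g * z * g⁻¹) = g * (z * z) * g⁻¹ := by group
      _ = 1 := by rw [hJ.sq]; group
  · intro h
    exact hJ.ne (conj_eq_one_iff.1 h)
  · rintro t ⟨y, hy, rfl⟩ ht
    have h1 : y * y = 1 := by
      apply (MulAut.conj g).injective
      rw [map_mul, map_one]
      exact ht
    rcases hJ.uniq y hy h1 with rfl | rfl
    · exact Or.inl (by simp)
    · exact Or.inr rfl
  · have hmap : (cen z).map (MulAut.conj g).toMonoidHom = cen (g * z * g⁻¹) := by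
      ext x
      constructor
      · rintro ⟨y, hy, rfl⟩
        rw [mem_cen]
        show g * y * g⁻¹ * (g * z * g⁻¹) = g * z * g⁻¹ * (g * y * g⁻¹)
        have h := mem_cen.1 hy
        calc g * y * g⁻¹ * (g * z * g⁻¹) = g * (y * z) * g⁻¹ := by group
          _ = g * (z * y) * g⁻¹ := by rw [h]
          _ = _ := by group
      · intro hx
        refine ⟨g⁻¹ * x * g, mem_cen.2 ?_, by simp [mul_assoc]⟩
        have h := mem_cen.1 hx
        calc g⁻¹ * x * g * z = g⁻¹ * (x * (g * z * g⁻¹)) * g := by group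
          _ = g⁻¹ * (g * z * g⁻¹ * x) * g := by rw [h]
          _ = _ := by group
    let e : ↥(cen z) ≃* ↥(cen (g * z * g⁻¹)) :=
      ((cen z).equivMapOfInjective (MulAut.conj g).toMonoidHom (MulAut.conj g).injective).trans
        (MulEquiv.subgroupCongr hmap)
    have himg : (J.subgroupOf (cen z)).map e.toMonoidHom =
        (cj g J).subgroupOf (cen (g * z * g⁻¹)) := by
      ext x
      constructor
      · rintro ⟨y, hy, rfl⟩
        exact ⟨(y : G), hy, rfl⟩
      · rintro ⟨y, hy, hyx⟩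
        exact ⟨⟨y, hJ.le hy⟩, hy, Subtype.ext hyx⟩
    rw [← himg]
    haveI : Fact (Nat.Prime 2) := ⟨Nat.prime_two⟩
    refine H46.isPComponent_map hJ.comp e.toMonoidHom (hJ.comp.1.map e.surjective) ?_ ?_
    · rw [(MonoidHom.ker_eq_bot_iff _).2 e.injective, bot_inf_eq, Subgroup.card_bot]
      exact Nat.coprime_one_left 2
    · rw [← Subgroup.map_map]
      exact ((Subgroup.Normal.isSubnormal inferInstance).trans' hJ.comp.1).map e.surjective

theorem conj_cen [Finite G] {g : G} (hg : g ∈ cen z) : Intr z (cj g J) := by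
  have h := hJ.conj g
  rwa [show g * z * g⁻¹ = z by rw [mem_cen.1 hg, mul_inv_cancel_right]] at h

theorem comm_le [Finite G] {J' : Subgroup G} (hJ' : Intr z J') (hne : J ≠ J') :
    ∀ a ∈ J, ∀ b ∈ J', a * b * a⁻¹ * b⁻¹ ∈ core z := by
  haveI : Fact (Nat.Prime 2) := ⟨Nat.prime_two⟩
  intro a ha b hb
  have hne' : J.subgroupOf (cen z) ≠ J'.subgroupOf (cen z) := by
    intro h
    exact hne (by
      rw [← Subgroup.map_subgroupOf_eq_of_le hJ.le, h, Subgroup.map_subgroupOf_eq_of_le hJ'.le])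
  have h := Components.commutator_pComponents_le hJ.comp hJ'.comp hne'
    (Subgroup.commutator_mem_commutator (g₁ := (⟨a, hJ.le ha⟩ : ↥(cen z)))
      (g₂ := (⟨b, hJ'.le hb⟩ : ↥(cen z))) ha hb)
  exact ⟨_, h.1.1, by simp [commutatorElement_def]⟩

theorem commute [Finite G] {J' : Subgroup G} (hJ' : Intr z J') (hne : J ≠ J') {P : Subgroup G}
    (hP : IsPGroup 2 P) {a b : G} (ha : a ∈ J) (haP : a ∈ P) (hb : b ∈ J') (hbP : b ∈ P) :
    a * b = b * a := by
  have h := eq_one_of_two_of_core hP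
    (P.mul_mem (P.mul_mem (P.mul_mem haP hbP) (P.inv_mem haP)) (P.inv_mem hbP))
    (hJ.comm_le hJ' hne a ha b hb)
  calc a * b = a * b * a⁻¹ * b⁻¹ * (b * a) := by group
    _ = b * a := by rw [h, one_mul]

theorem qgrp [Finite G] {P : Subgroup G} (hP : Syl z P) : QGrp z (P ⊓ J) ∧ ¬ 2 ∣ (P ⊓ J).relIndex J := by
  haveI : Fact (Nat.Prime 2) := ⟨Nat.prime_two⟩
  have hidx : ¬ 2 ∣ (P ⊓ J).relIndex J := by
    rw [Subgroup.inf_relIndex_right]
    intro h
    have h1 := H77.relIndex_dvd_index_of_subnormal hJ.comp.1 (P.subgroupOf (cen z))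
    rw [Subgroup.relIndex_subgroupOf hJ.le] at h1
    exact hP.idx (h.trans h1)
  have hisP : IsPGroup 2 (P ⊓ J : Subgroup G) := hP.isP.to_le inf_le_left
  let S : Sylow 2 ↥J := (hisP.comap_subtype (K := J)).toSylow hidx
  haveI : Group.IsPerfect ↥J := Subgroup.isPerfect_iff.mpr hJ.perfect
  have hzc : (⟨z, hJ.mem⟩ : ↥J) ∈ Subgroup.center ↥J := Subgroup.mem_center_iff.2 fun g =>
    Subtype.ext (mem_cen.1 (hJ.le g.2))
  have hzP : z ∈ P ⊓ J := by
    obtain ⟨Q, hQ⟩ := ((IsPGroup.of_card (p := 2) (n := 1) (G := zpowers (⟨z, hJ.mem⟩ : ↥J)) (by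
      rw [Nat.card_zpowers, pow_one, orderOf_eq_prime_iff]
      exact ⟨Subtype.ext (by simpa [pow_two] using hJ.sq),
        fun h => hJ.ne (congrArg Subtype.val h)⟩)).exists_le_sylow)
    obtain ⟨g, hg⟩ := MulAction.exists_smul_eq ↥J Q S
    have h1 : g * ⟨z, hJ.mem⟩ * g⁻¹ ∈ (g • Q : Sylow 2 ↥J) := ⟨_, hQ (mem_zpowers _), rfl⟩
    rw [hg] at h1
    rw [(Subgroup.mem_center_iff.1 hzc) g, mul_inv_cancel_right] at h1
    exact h1
  refine ⟨⟨hisP, hzP, hJ.sq, hJ.ne, fun t ht => hJ.uniq t ht.2, ?_⟩, hidx⟩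
  by_contra hab
  push Not at hab
  haveI : IsMulCommutative (S : Subgroup ↥J) :=
    ⟨⟨fun a b => Subtype.ext (Subtype.ext (hab _ a.2 _ b.2))⟩⟩
  have h1 := Components.eq_one_of_perfect_center S hzc (Subtype.ext (by simpa [pow_two] using hJ.sq))
  exact hJ.ne (congrArg Subtype.val h1)

theorem two_mem [Finite G] {a x : G} (ha : a ∈ J) (hx : x ∈ cen z) (k : ℕ) (hk : x ^ 2 ^ k = 1)
    (h : a⁻¹ * x ∈ core z) : x ∈ J := by
  haveI : Fact (Nat.Prime 2) := ⟨Nat.prime_two⟩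
  have hx' : (⟨x, hx⟩ : ↥(cen z)) ∈ J.subgroupOf (cen z) := by
    rw [Components.pComponent_eq hJ.comp]
    refine Components.mem_pElemClosure ?_ (k := k) (Subtype.ext (by simpa using hk))
    rw [Subgroup.mem_comap]
    refine ⟨⟨a, hJ.le ha⟩, ha, ?_⟩
    apply (QuotientGroup.eq).2
    obtain ⟨o, ho, hoe⟩ := h
    rwa [show (⟨a, hJ.le ha⟩ : ↥(cen z))⁻¹ * ⟨x, hx⟩ = o from Subtype.ext hoe.symm]
  exact hx'

theorem core_normalizes [Finite G] : core z ≤ normalizer (J : Set G) := by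
  haveI : Fact (Nat.Prime 2) := ⟨Nat.prime_two⟩
  rintro x ⟨o, ho, rfl⟩
  rw [← cj_eq_iff]
  have h := Components.map_conj_eq_of_mem_normalizer
    (Components.pPrimeCore_le_normalizer hJ.comp ho)
  apply le_antisymm
  · rintro _ ⟨y, hy, rfl⟩
    have : (MulAut.conj o) ⟨y, hJ.le hy⟩ ∈ J.subgroupOf (cen z) := h ▸ ⟨⟨y, hJ.le hy⟩, hy, rfl⟩
    exact this
  · intro y hy
    obtain ⟨w, hw, hwe⟩ := h.ge (show (⟨y, hJ.le hy⟩ : ↥(cen z)) ∈ J.subgroupOf (cen z) from hy)
    exact ⟨(w : G), hw, congrArg Subtype.val hwe⟩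

theorem le_normalizer [Finite G] {J' : Subgroup G} (hJ' : Intr z J') :
    J' ≤ normalizer (J : Set G) := by
  haveI : Fact (Nat.Prime 2) := ⟨Nat.prime_two⟩
  intro x hx
  rw [← cj_eq_iff]
  have h := Components.map_conj_eq_of_mem_normalizer
    (Components.pComponent_le_normalizer_pComponent hJ.comp hJ'.comp
      (show (⟨x, hJ'.le hx⟩ : ↥(cen z)) ∈ J'.subgroupOf (cen z) from hx))
  apply le_antisymm
  · rintro _ ⟨y, hy, rfl⟩
    exact h.le ⟨⟨y, hJ.le hy⟩, hy, rfl⟩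
  · intro y hy
    obtain ⟨w, hw, hwe⟩ := h.ge (show (⟨y, hJ.le hy⟩ : ↥(cen z)) ∈ J.subgroupOf (cen z) from hy)
    exact ⟨(w : G), hw, congrArg Subtype.val hwe⟩

/-- An element of order 4 of a Sylow 2-subgroup lies in a single 2-component. -/
theorem eq_of_four [Finite G] {J' : Subgroup G} (hJ' : Intr z J') {P : Subgroup G}
    (hP : IsPGroup 2 P) {a : G} (haP : a ∈ P) (ha : a ∈ J) (ha' : a ∈ J') (haa : a * a = z) :
    J = J' := by
  haveI : Fact (Nat.Prime 2) := ⟨Nat.prime_two⟩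
  by_contra hne
  obtain ⟨Q, hQ, hle⟩ := exists_syl (z := z) (hP.to_le (inf_le_left : P ⊓ cen z ≤ P)) inf_le_right
  have hqs := (hJ.qgrp hQ).1
  have haQ : a ∈ Q := hle ⟨haP, hJ.le ha⟩
  rcases hqs.central ⟨haQ, ha⟩ (fun b hb => hJ.commute hJ' hne hQ.isP hb.2 hb.1 ha' haQ) with e | e
  · exact (hqs.four_ne haa).1 e
  · exact (hqs.four_ne haa).2 e

end Intr

end Cfsg.Agent.H13.Intrinsic
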