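import Cfsg.Agent.H13.Intrinsic.Basic
import Cfsg.Agent.Cores.LBalanceMain
import Cfsg.Agent.S1314
import Cfsg.Prelude.Def_ClassificationStages

/-!
Moving elements of the 2-layer between centralizers of commuting involutions.
-/

set_option autoImplicit false
set_option linter.style.haveILetI false

namespace Cfsg.Agent.H13.Intrinsic

open Subgroup
open scoped commutatorElement

variable {G : Type*} [Group G]

theorem pComp_equiv {A B : Type*} [Group A] [Finite A] [Group B] [Finite B] (e : A ≃* B)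
    {J : Subgroup A} (h : Cfsg.IsPComponent 2 J) : Cfsg.IsPComponent 2 (J.map e.toMonoidHom) := by
  haveI : Fact (Nat.Prime 2) := ⟨Nat.prime_two⟩
  refine H46.isPComponent_map h e.toMonoidHom (h.1.map e.surjective) ?_ ?_
  · rw [(MonoidHom.ker_eq_bot_iff _).2 e.injective, bot_inf_eq, Subgroup.card_bot]
    exact Nat.coprime_one_left 2
  · rw [← Subgroup.map_map]
    exact ((Subgroup.Normal.isSubnormal inferInstance).trans' h.1).map e.surjective

theorem pLayer_equiv {A B : Type*} [Group A] [Finite A] [Group B] [Finite B] (e : A ≃* B) :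
    (Cfsg.pLayer 2 A).map e.toMonoidHom = Cfsg.pLayer 2 B := by
  refine le_antisymm ?_ ?_
  · rw [Subgroup.map_le_iff_le_comap]
    refine sSup_le fun K hK => ?_
    rw [← Subgroup.map_le_iff_le_comap]
    exact le_sSup (pComp_equiv e hK)
  · refine sSup_le fun K hK => ?_
    intro x hx
    exact ⟨e.symm x,
      (le_sSup (pComp_equiv e.symm hK) : _ ≤ Cfsg.pLayer 2 A) ⟨x, hx, rfl⟩, by simp⟩

/-- The 2-layer of a subgroup seen through a bigger one. -/
theorem pLayerOf_through [Finite G] {H D : Subgroup G} {D0 : Subgroup ↥H}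
    (h : D0.map H.subtype = D) :
    ((Cfsg.pLayer 2 ↥D0).map D0.subtype).map H.subtype = Cfsg.pLayerOf 2 D := by
  let e : ↥D0 ≃* ↥D :=
    (D0.equivMapOfInjective H.subtype H.subtype_injective).trans (MulEquiv.subgroupCongr h)
  have h2 : D.subtype.comp e.toMonoidHom = H.subtype.comp D0.subtype := rfl
  rw [Cfsg.pLayerOf, ← pLayer_equiv e, Subgroup.map_map, Subgroup.map_map, h2]

theorem map_layer_le {A B : Type*} [Group A] [Finite A] [Group B] [Finite B] {f : A →* B}
    (hf : Function.Surjective f) : (Cfsg.layer A).map f ≤ Cfsg.layer B := by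
  rw [Subgroup.map_le_iff_le_comap]
  refine Components.layer_le_iff.mpr fun C hC => ?_
  rw [← Subgroup.map_le_iff_le_comap]
  by_cases h : C.map f = ⊥
  · rw [h]; exact bot_le
  haveI : Nontrivial ↥(C.map f) := (Subgroup.nontrivial_iff_ne_bot _).2 h
  exact Components.component_le_layer ⟨hC.1.map hf,
    Components.qs_of_surjective hC.2 (f.subgroupMap C) (f.subgroupMap_surjective C)⟩

/-- A 2-element whose image in a quotient by an odd normal subgroup lies in the layer lies in the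
2-layer. -/
theorem mem_pLayer_of_layer {D C : Type*} [Group D] [Finite D] [Group C] [Finite C] {ψ : D →* C}
    (hψ : Function.Surjective ψ) (hker : (Nat.card ↥ψ.ker).Coprime 2) {x : D} {k : ℕ}
    (hk : x ^ 2 ^ k = 1) (hx : ψ x ∈ Cfsg.layer C) : x ∈ Cfsg.pLayer 2 D := by
  haveI : Fact (Nat.Prime 2) := ⟨Nat.prime_two⟩
  let f : C →* D ⧸ Cfsg.pPrimeCore 2 D := MonoidHom.liftOfSurjective ψ hψ
    ⟨Components.qmap 2 D, (Cores.le_pPrimeCore hker).trans_eq (Components.ker_qmap).symm⟩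
  have hf : ∀ d, f (ψ d) = Components.qmap 2 D d := fun d =>
    MonoidHom.liftOfRightInverse_comp_apply ψ _ _ _ d
  have hfs : Function.Surjective f := fun q => by
    obtain ⟨d, rfl⟩ := Components.qmap_surjective q
    exact ⟨ψ d, hf d⟩
  have h1 : Components.qmap 2 D x ∈ Cfsg.layer (D ⧸ Cfsg.pPrimeCore 2 D) :=
    map_layer_le hfs ⟨ψ x, hx, hf x⟩
  haveI := H41.pLayer_normal 2 D
  have h2 := Components.pElemClosure_comap_le (p := 2) _
    (Subgroup.Normal.isSubnormal (inferInstance : (Cfsg.pLayer 2 D).Normal))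
    (Components.map_pLayer (p := 2) (G := D)).ge
  exact h2 (Components.mem_pElemClosure (show x ∈ Subgroup.comap _ _ from h1) hk)

/-- L-balance for two commuting involutions. -/
theorem balance [Finite G] {u σ : G} (hu : u * u = 1) (huσ : u ∈ cen σ) :
    Cfsg.pLayerOf 2 (cen σ ⊓ cen u) ≤ Cfsg.pLayerOf 2 (cen σ) := by
  haveI : Fact (Nat.Prime 2) := ⟨Nat.prime_two⟩
  set a : ↥(cen σ) := ⟨u, huσ⟩
  have hT : IsPGroup 2 ↥(zpowers a) := by
    intro g
    obtain ⟨g, hg⟩ := g
    obtain ⟨i, rfl⟩ := mem_zpowers_iff.1 hg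
    refine ⟨1, Subtype.ext ?_⟩
    show (a ^ i) ^ 2 ^ 1 = 1
    rw [pow_one, pow_two, ← (Commute.refl a).mul_zpow, show a * a = 1 from Subtype.ext hu, one_zpow]
  have hD : (centralizer ((zpowers a : Subgroup _) : Set ↥(cen σ))).map (cen σ).subtype =
      cen σ ⊓ cen u := by
    ext x
    constructor
    · rintro ⟨y, hy, rfl⟩
      exact ⟨y.2, mem_cen.2 (congrArg Subtype.val (hy a (mem_zpowers a))).symm⟩
    · rintro ⟨hxσ, hxu⟩
      refine ⟨⟨x, hxσ⟩, ?_, rfl⟩
      intro t ht
      obtain ⟨i, rfl⟩ := mem_zpowers_iff.1 ht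
      exact (Commute.zpow_left (show Commute a ⟨x, hxσ⟩ from Subtype.ext (mem_cen.1 hxu).symm) i).eq
  rw [← pLayerOf_through hD]
  exact Subgroup.map_mono (Cores.lBalance_two hT)

/-- The centralizer of `σ` inside `C(u)`, seen in `C(u)`. -/
theorem map_centralizer_cen {u σ : G} (hσ : σ ∈ cen u) :
    (centralizer ({(⟨σ, hσ⟩ : ↥(cen u))} : Set ↥(cen u))).map (cen u).subtype = cen u ⊓ cen σ := by
  ext x
  constructor
  · rintro ⟨y, hy, rfl⟩
    exact ⟨y.2, mem_cen.2 (congrArg Subtype.val (mem_centralizer_singleton_iff.1 hy))⟩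
  · rintro ⟨hxu, hxσ⟩
    exact ⟨⟨x, hxu⟩, mem_centralizer_singleton_iff.2 (Subtype.ext (mem_cen.1 hxσ)), rfl⟩

/-- A 2-element commuting with `σ`, whose image is in the layer of the centralizer of the image of
`σ`, lies in the 2-layer of `C(u) ∩ C(σ)`. -/
theorem lift [Finite G] {u σ : G} (hσ2 : σ * σ = 1) (hσ : σ ∈ cen u) {x : G} (hx : x ∈ cen u)
    (hxσ : x ∈ cen σ) {k : ℕ} (hk : x ^ 2 ^ k = 1)
    (h : Components.qmap 2 ↥(cen u) ⟨x, hx⟩ ∈
      (Cfsg.layer ↥(centralizer ({Components.qmap 2 ↥(cen u) ⟨σ, hσ⟩} : Set _))).map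
        (Subgroup.subtype _)) :
    x ∈ Cfsg.pLayerOf 2 (cen u ⊓ cen σ) := by
  haveI : Fact (Nat.Prime 2) := ⟨Nat.prime_two⟩
  set q := Components.qmap 2 ↥(cen u) with hq
  set s : ↥(cen u) := ⟨σ, hσ⟩ with hs
  set D0 := centralizer ({s} : Set ↥(cen u)) with hD0
  have hT : IsPGroup 2 ↥(zpowers s) := by
    intro g
    obtain ⟨g, hg⟩ := g
    obtain ⟨i, rfl⟩ := mem_zpowers_iff.1 hg
    refine ⟨1, Subtype.ext ?_⟩
    show (s ^ i) ^ 2 ^ 1 = 1
    rw [pow_one, pow_two, ← (Commute.refl s).mul_zpow, show s * s = 1 from Subtype.ext hσ2, one_zpow]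
  have e1 : ∀ {X : Type _} [Group X] (t : X),
      centralizer ((zpowers t : Subgroup X) : Set X) = centralizer ({t} : Set X) := by
    intro X _ t
    rw [zpowers_eq_closure, centralizer_closure]
  have hmap : D0.map q = centralizer ({q s} : Set _) := by
    have h1 := Cores.map_centralizer_of_coprime (Cfsg.pPrimeCore 2 ↥(cen u))
      Cores.coprime_card_pPrimeCore hT
    rw [MonoidHom.map_zpowers, e1, e1] at h1
    exact h1
  let ψ : ↥D0 →* ↥(centralizer ({q s} : Set _)) :=
    (MulEquiv.subgroupCongr hmap).toMonoidHom.comp (q.subgroupMap D0)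
  have hψ : Function.Surjective ψ :=
    (MulEquiv.subgroupCongr hmap).surjective.comp (q.subgroupMap_surjective D0)
  have hker : (Nat.card ↥ψ.ker).Coprime 2 := by
    have hmem : ∀ d : ↥ψ.ker, ((d : ↥D0) : ↥(cen u)) ∈ Cfsg.pPrimeCore 2 ↥(cen u) := by
      intro d
      refine (QuotientGroup.eq_one_iff _).1 ?_
      exact congrArg Subtype.val (MonoidHom.mem_ker.1 d.2)
    refine Nat.Coprime.coprime_dvd_left ?_
      (Cores.coprime_card_pPrimeCore (p := 2) (G := ↥(cen u)))
    exact Subgroup.card_dvd_of_injective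
      ((D0.subtype.comp ψ.ker.subtype).codRestrict (Cfsg.pPrimeCore 2 ↥(cen u)) hmem)
      (fun a b hab => Subtype.ext (Subtype.ext (congrArg Subtype.val hab :)))
  obtain ⟨y, hy, hyx⟩ := h
  have hxD : (⟨x, hx⟩ : ↥(cen u)) ∈ D0 :=
    mem_centralizer_singleton_iff.2 (Subtype.ext (mem_cen.1 hxσ))
  have hψx : ψ ⟨⟨x, hx⟩, hxD⟩ = y := Subtype.ext hyx.symm
  have h1 := mem_pLayer_of_layer (k := k) hψ hker
    (Subtype.ext (Subtype.ext (by simpa using hk))) (hψx ▸ hy)
  rw [← pLayerOf_through (map_centralizer_cen hσ)]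
  exact ⟨⟨x, hx⟩, ⟨_, h1, rfl⟩, rfl⟩

/-- The diagonal of a pair of 2-components moved by an involution. -/
theorem diag [Finite G] {u σ : G} {K : Subgroup G} (hK : Intr u K) (hσ2 : σ * σ = 1)
    (hσ : σ ∈ cen u) (hmove : cj σ K ≠ K) {y : G} (hy : y ∈ K) {k : ℕ} (hk : y ^ 2 ^ k = 1)
    (hc : y * (σ * y * σ) = σ * y * σ * y) :
    y * (σ * y * σ) ∈ Cfsg.pLayerOf 2 (cen u ⊓ cen σ) := by
  haveI : Fact (Nat.Prime 2) := ⟨Nat.prime_two⟩
  have hσinv : σ⁻¹ = σ := inv_eq_of_mul_eq_one_right hσ2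
  have hyu := hK.le hy
  have hsys : σ * y * σ ∈ cen u := (cen u).mul_mem ((cen u).mul_mem hσ hyu) hσ
  have hxu : y * (σ * y * σ) ∈ cen u := (cen u).mul_mem hyu hsys
  have hxσ : y * (σ * y * σ) ∈ cen σ := by
    rw [mem_cen]
    calc y * (σ * y * σ) * σ = y * σ * y * (σ * σ) := by group
      _ = y * σ * y := by rw [hσ2, mul_one]
      _ = (σ * σ) * (y * σ * y) := by rw [hσ2, one_mul]
      _ = σ * (σ * y * σ * y) := by group
      _ = σ * (y * (σ * y * σ)) := by rw [hc]
  have hxk : (y * (σ * y * σ)) ^ 2 ^ k = 1 := by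
    have h1 : (σ * y * σ) ^ 2 ^ k = 1 := by
      rw [show σ * y * σ = σ * y * σ⁻¹ by rw [hσinv], conj_pow, hk]
      group
    rw [(show Commute y (σ * y * σ) from hc).mul_pow, hk, h1, one_mul]
  refine lift hσ2 hσ hxu hxσ hxk ?_
  set q := Components.qmap 2 ↥(cen u) with hq
  set s : ↥(cen u) := ⟨σ, hσ⟩ with hs
  set L := (K.subgroupOf (cen u)).map q with hL
  have hLc : Cfsg.IsComponent L := hK.comp.2.1
  have hK' : Intr u (cj σ K) := hK.conj_cen hσ
  have hconj : L.map (MulAut.conj (q s)).toMonoidHom = ((cj σ K).subgroupOf (cen u)).map q := by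
    ext t
    constructor
    · rintro ⟨_, ⟨a, ha, rfl⟩, rfl⟩
      exact ⟨s * a * s⁻¹, ⟨(a : G), ha, rfl⟩, by simp⟩
    · rintro ⟨b, hb, rfl⟩
      obtain ⟨a, ha, hab⟩ := hb
      refine ⟨q ⟨a, hK.le ha⟩, ⟨_, ha, rfl⟩, ?_⟩
      rw [show b = s * ⟨a, hK.le ha⟩ * s⁻¹ from Subtype.ext hab.symm]
      simp
  have hne : L ≠ ((cj σ K).subgroupOf (cen u)).map q := by
    intro e
    have h1 := Components.pComponent_ext hK.comp hK'.comp e
    apply hmove
    rw [← Subgroup.map_subgroupOf_eq_of_le hK'.le, ← h1, Subgroup.map_subgroupOf_eq_of_le hK.le]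
  have hs2 : orderOf (q s) = 2 := by
    rw [orderOf_eq_prime_iff]
    refine ⟨?_, fun e => hne ?_⟩
    · rw [← map_pow, pow_two, show s * s = 1 from Subtype.ext hσ2, map_one]
    · rw [← hconj, e]
      ext t
      simp
  have hcomm : ⁅L, L.map (MulAut.conj (q s)).toMonoidHom⁆ = ⊥ := by
    rw [hconj]
    exact Components.components_commute hLc hK'.comp.2.1 hne
  obtain ⟨π, hπ, hker, hrange, heq⟩ := Cfsg.Agent.S1314.result (q s) hs2 L
    (Components.component_perfect hLc) hcomm
  set M := L.map (MulAut.conj (q s)).toMonoidHom with hM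
  set C := centralizer ({q s} : Set (↥(cen u) ⧸ Cfsg.pPrimeCore 2 ↥(cen u))) with hC
  have hMc : Cfsg.IsComponent M := hconj ▸ hK'.comp.2.1
  have hsub : (L ⊔ M).IsSubnormal := by
    have hle : L ⊔ M ≤ Cfsg.layer _ :=
      sup_le (Components.component_le_layer hLc) (Components.component_le_layer hMc)
    refine .step _ _ hle (Subgroup.Normal.isSubnormal inferInstance)
      ((Subgroup.normal_subgroupOf_iff_le_normalizer hle).2 ?_)
    exact fun g hg => Components.mem_normalizer_of_map_conj_eq (by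
      rw [Subgroup.map_sup,
        Components.map_conj_eq_of_mem_normalizer (Components.layer_le_normalizer_component hLc hg),
        Components.map_conj_eq_of_mem_normalizer (Components.layer_le_normalizer_component hMc hg)])
  set W := (L ⊔ M) ⊓ C with hW
  have hEC : Cfsg.IsComponent (π.range.subgroupOf C) := by
    have hWn : W ≤ normalizer ((⁅W, W⁆ : Subgroup _) : Set _) := fun g hg =>
      Components.mem_normalizer_of_map_conj_eq (by
        rw [Subgroup.map_commutator, Components.map_conj_eq_of_mem_normalizer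
          (Subgroup.le_normalizer hg)])
    refine ⟨?_, ?_⟩
    · rw [← heq]
      refine .step _ (W.subgroupOf C) (Subgroup.comap_mono (Subgroup.commutator_le_self W)) ?_ ?_
      · rw [hW, Subgroup.inf_subgroupOf_right]
        exact hsub.subgroupOf
      · refine (Subgroup.normal_subgroupOf_iff_le_normalizer
          (Subgroup.comap_mono (Subgroup.commutator_le_self W))).2 ?_
        exact (Subgroup.comap_mono hWn).trans (Subgroup.le_normalizer_comap _)
    · refine Components.qs_congr (Subgroup.subgroupOfEquivOfLe hrange).symm ?_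
      haveI : Nontrivial ↥π.range := by
        rw [Subgroup.nontrivial_iff_ne_bot]
        intro e
        apply Components.qs_center_ne_top hLc.2
        rw [MonoidHom.range_eq_bot_iff] at e
        refine top_le_iff.1 (le_trans ?_ hker)
        intro l _
        rw [MonoidHom.mem_ker, e]
        rfl
      exact Components.qs_of_surjective hLc.2 π.rangeRestrict π.rangeRestrict_surjective
  have hqy : q ⟨y, hyu⟩ ∈ L := ⟨_, hy, rfl⟩
  have hval : π ⟨_, hqy⟩ = q ⟨_, hxu⟩ := by
    rw [hπ]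
    show q ⟨y, hyu⟩ * (q s * q ⟨y, hyu⟩ * (q s)⁻¹) = _
    rw [← map_inv, ← map_mul, ← map_mul, ← map_mul]
    congr 1
    apply Subtype.ext
    show y * (σ * y * σ⁻¹) = y * (σ * y * σ)
    rw [hσinv]
  exact ⟨⟨_, hrange ⟨_, rfl⟩⟩, Components.component_le_layer hEC ⟨_, rfl⟩, hval⟩

namespace Intr

theorem pLayerOf_le_normalizer [Finite G] {z : G} {M : Subgroup G} (hM : Intr z M) :
    Cfsg.pLayerOf 2 (cen z) ≤ normalizer (M : Set G) := by
  haveI : Fact (Nat.Prime 2) := ⟨Nat.prime_two⟩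
  rintro _ ⟨g, hg, rfl⟩
  have h := Components.map_conj_eq_of_mem_normalizer
    (Components.pLayer_le_normalizer hM.comp hg)
  rw [← cj_eq_iff]
  apply le_antisymm
  · rintro _ ⟨y, hy, rfl⟩
    exact h.le ⟨⟨y, hM.le hy⟩, hy, rfl⟩
  · intro y hy
    obtain ⟨w, hw, hwe⟩ := h.ge (show (⟨y, hM.le hy⟩ : ↥(cen z)) ∈ M.subgroupOf (cen z) from hy)
    exact ⟨(w : G), hw, congrArg Subtype.val hwe⟩

end Intr

end Cfsg.Agent.H13.Intrinsic
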