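import Cfsg.Agent.H13.Intrinsic.Tools

/-!
The first reductions for a 2-element of `K` moving `J`.
-/

set_option autoImplicit false
set_option linter.style.haveILetI false

namespace Cfsg.Agent.H13.Intrinsic

open Subgroup

variable {G : Type*} [Group G] [Finite G] {u z y : G} {J K : Subgroup G}

section

variable (hK : Intr u K) (hJ : Intr z J) (hy : y ∈ K) (hyz : y * z = z * y) (hzu : z ≠ u)
  (hmove : cj y J ≠ J)

include hK hJ hy hyz hzu hmove

/-- The case of order at least 8. -/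
theorem big_false {k : ℕ} (hk : y ^ 2 ^ k = 1) (h1 : y * y ≠ 1) (hu : y * y ≠ u)
    (hfix : y * y ∈ normalizer (J : Set G)) : False := by
  have hyu : y ∈ cen u := hK.le hy
  have hycen : y ∈ cen z := mem_cen.2 hyz
  have huinv : u⁻¹ = u := inv_eq_of_mul_eq_one_right hK.sq
  -- `u` is a power of `y * y`
  obtain ⟨Ru, hRu, hleu⟩ := exists_syl (z := u) (isP_zpowers hk) (zpowers_le.2 hyu)
  obtain ⟨n, hn⟩ := ((hK.qgrp hRu).1).exists_pow_four
    (a := y * y) ⟨Ru.mul_mem (hleu (mem_zpowers y)) (hleu (mem_zpowers y)), K.mul_mem hy hy⟩ h1 hu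
  have hupow : u = (y * y) ^ (n + n) := by rw [pow_add, hn]
  have huJ : u ∈ normalizer (J : Set G) := hupow ▸ pow_mem hfix _
  have huy : Commute u y := by
    rw [hupow]
    exact ((Commute.refl y).mul_left (Commute.refl y)).pow_left _
  have hucen : u ∈ cen z := hupow ▸ pow_mem (mul_mem hycen hycen) _
  obtain ⟨P, hP, hle⟩ := exists_syl (z := z) (isP_zpowers hk) (zpowers_le.2 hycen)
  have hyP : y ∈ P := hle (mem_zpowers y)
  have huP : u ∈ P := hupow ▸ pow_mem (mul_mem hyP hyP) _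
  have hS := (hJ.qgrp hP).1
  have hn' : ∀ a ∈ P ⊓ J, u * a * u ∈ P ⊓ J := by
    intro a ha
    refine ⟨P.mul_mem (P.mul_mem huP ha.1) huP, ?_⟩
    have := (Subgroup.mem_normalizer_iff.1 huJ a).1 ha.2
    rwa [huinv] at this
  have hJ1 := hJ.conj_cen hycen
  obtain ⟨R, hR, hRle⟩ := exists_syl (z := u) (hP.isP.to_le (inf_le_left : P ⊓ cen u ≤ P))
    inf_le_right
  have hyR : y ∈ R := hRle ⟨hyP, hyu⟩
  have hzy : y * z * y⁻¹ = z := by rw [hyz, mul_inv_cancel_right]
  -- a component moved by an element gives a central commutator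
  have hmoved : ∀ v ∈ cen u, v ∈ R → cj v K ≠ K → ∀ b : G, v * y * v⁻¹ = b * y → y * b = b * y := by
    intro v hv hvR hne b hb
    have h := hK.commute (hK.conj_cen hv) hne.symm hR.isP hy hyR (hb ▸ cj_mem hy)
      (hb ▸ R.mul_mem (R.mul_mem hvR hyR) (R.inv_mem hvR))
    rw [← mul_assoc] at h
    exact mul_right_cancel h
  have hsqr : ∀ v ∈ cen u, v ∈ R → cj v K ≠ K → (v * y * v⁻¹) * (v * y * v⁻¹) ≠ y * y := by
    intro v hv hvR hne e
    rcases shared hK (hK.conj_cen hv) hne.symm hR.isP (R.mul_mem hyR hyR) (K.mul_mem hy hy)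
      (e ▸ Subgroup.mul_mem _ (cj_mem hy) (cj_mem hy)) with e' | e'
    · exact h1 e'
    · exact hu e'
  by_cases hinv : ∀ a ∈ P ⊓ J, a * a = z → u * a * u ≠ a * z
  · obtain ⟨c, hc, hcc⟩ := hS.exists_four
    have hfixc := hS.fixed_of_no_inverted hK.sq hn' hinv hc hcc
    have hcu : c ∈ cen u := mem_cen.2 (by
      calc c * u = u * c * u * u := by rw [hfixc]
        _ = u * c * (u * u) := by group
        _ = u * c := by rw [hK.sq, mul_one])
    have hcR : c ∈ R := hRle ⟨hc.1, hcu⟩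
    set c1 := y * c * y⁻¹ with hc1
    have hc1J : c1 ∈ cj y J := cj_mem hc.2
    have hc1P : c1 ∈ P := P.mul_mem (P.mul_mem hyP hc.1) (P.inv_mem hyP)
    have hcomm : Commute c c1 := hJ.commute hJ1 hmove.symm hP.isP hc.2 hc.1 hc1J hc1P
    have hc1c1 : c1 * c1 = z := by
      calc c1 * c1 = y * (c * c) * y⁻¹ := by rw [hc1]; group
        _ = z := by rw [hcc, hzy]
    set b := c * c1⁻¹ with hbdef
    have hb : c * y * c⁻¹ = b * y := by rw [hbdef, hc1]; group
    have hbb : b * b = 1 := by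
      calc b * b = (c * c) * (c1 * c1)⁻¹ := by
            rw [hbdef, ← pow_two, hcomm.inv_right.mul_pow, pow_two, pow_two, mul_inv_rev c1 c1]
        _ = 1 := by rw [hcc, hc1c1, mul_inv_cancel]
    have hb1 : b ≠ 1 := by
      intro e
      have e' : c = c1 := mul_inv_eq_one.1 e
      rcases shared hJ hJ1 hmove.symm hP.isP hc.1 hc.2 (e'.symm ▸ hc1J) with h | h
      · exact (hS.four_ne hcc).1 h
      · exact (hS.four_ne hcc).2 h
    by_cases hKc : cj c K = K
    · have hbK : b ∈ K := by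
        have h := cj_mem (g := c) hy
        rw [hKc, hb] at h
        simpa using K.mul_mem h (K.inv_mem hy)
      rcases hK.uniq b hbK hbb with e | e
      · exact hb1 e
      have huc : u * c1 = c := by rw [← e, hbdef, inv_mul_cancel_right]
      obtain ⟨d, hd, hdd, hdc⟩ := hS.partner hc hcc
      have hfd := hS.fixed_of_no_inverted hK.sq hn' hinv hd hdd
      have hdc1 : Commute d c1 := hJ.commute hJ1 hmove.symm hP.isP hd.2 hd.1 hc1J hc1P
      have h2 : c * d = d * c := by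
        have hdu : u * d = d * u := by
          calc u * d = u * d * (u * u) := by rw [hK.sq, mul_one]
            _ = (u * d * u) * u := by group
            _ = d * u := by rw [hfd]
        rw [← huc, mul_assoc, ← hdc1.eq, ← mul_assoc, hdu, mul_assoc]
      rw [← h2] at hdc
      exact hJ.ne (mul_eq_left.1 hdc.symm)
    · have hyb := hmoved c hcu hcR hKc b hb
      apply hsqr c hcu hcR hKc
      rw [hb, ← pow_two, (Commute.symm hyb).mul_pow, pow_two, pow_two, hbb, one_mul]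
  · push Not at hinv
    obtain ⟨c, hc, hcc, huc⟩ := hinv
    set c1 := y * c * y⁻¹ with hc1
    set c2 := y * c1 * y⁻¹ with hc2
    have hc1J : c1 ∈ cj y J := cj_mem hc.2
    have hc1P : c1 ∈ P := P.mul_mem (P.mul_mem hyP hc.1) (P.inv_mem hyP)
    have hc2P : c2 ∈ P := P.mul_mem (P.mul_mem hyP hc1P) (P.inv_mem hyP)
    have hc2eq : c2 = (y * y) * c * (y * y)⁻¹ := by rw [hc2, hc1]; group
    have hc2J : c2 ∈ J := hc2eq ▸ (Subgroup.mem_normalizer_iff.1 hfix c).1 hc.2
    have hcomm : Commute c c1 := hJ.commute hJ1 hmove.symm hP.isP hc.2 hc.1 hc1J hc1P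
    have hcomm2 : Commute c2 c1 := hJ.commute hJ1 hmove.symm hP.isP hc2J hc2P hc1J hc1P
    have hcz : Commute c z := mem_cen.1 (hJ.le hc.2)
    have hc1u : u * c1 * u = c1 * z := by
      calc u * c1 * u = y * (u * c * u) * y⁻¹ := by
            rw [hc1, ← mul_assoc u, ← mul_assoc u, huy.eq, mul_assoc (y * u * c) y⁻¹ u,
              huy.inv_right.symm.eq]
            group
        _ = c1 * z := by rw [huc, hc1]; calc y * (c * z) * y⁻¹ = y * c * y⁻¹ * (y * z * y⁻¹) := by group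
              _ = y * c * y⁻¹ * z := by rw [hzy]
    set v := c * c1 with hv
    have hvcen : v ∈ cen u := mem_cen.2 (by
      have hc1z : Commute z c1 := (mem_cen.1 (hP.le hc1P)).symm
      have h : u * v * u = v := by
        calc u * v * u = (u * c * u) * ((u * u)⁻¹ * u * c1 * u) := by rw [hv]; group
          _ = (c * z) * (c1 * z) := by rw [huc, hK.sq, inv_one, one_mul, hc1u]
          _ = c * c1 * (z * z) := by rw [mul_assoc c z (c1 * z), ← mul_assoc z c1 z, hc1z.eq]; group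
          _ = v := by rw [hJ.sq, mul_one, hv]
      calc v * u = u * v * u * u := by rw [h]
        _ = u * v * (u * u) := by group
        _ = u * v := by rw [hK.sq, mul_one])
    have hvR : v ∈ R := hRle ⟨P.mul_mem hc.1 hc1P, hvcen⟩
    set b := c * c2⁻¹ with hbdef
    have hb : v * y * v⁻¹ = b * y := by
      calc v * y * v⁻¹ = c * (c1 * c2⁻¹ * c1⁻¹) * y := by rw [hv, hc2, hc1]; group
        _ = b * y := by rw [hcomm2.inv_left.symm.eq, mul_inv_cancel_right, hbdef]
    have hbP : b ∈ P := P.mul_mem hc.1 (P.inv_mem hc2P)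
    have hbJ : b ∈ J := J.mul_mem hc.2 (J.inv_mem hc2J)
    have hb1 : b ≠ 1 := by
      intro e
      have e' : c2 = c := (mul_inv_eq_one.1 e).symm
      have hcy : Commute (y * y) c := by
        show y * y * c = c * (y * y)
        calc y * y * c = c2 * (y * y) := by rw [hc2eq, inv_mul_cancel_right]
          _ = c * (y * y) := by rw [e']
      have hcu : Commute u c := hupow ▸ hcy.pow_left _
      rw [hcu.eq, mul_assoc, hK.sq, mul_one] at huc
      exact hJ.ne (mul_eq_left.1 huc.symm)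
    by_cases hKv : cj v K = K
    · have hbK : b ∈ K := by
        have h := cj_mem (g := v) hy
        rw [hKv, hb] at h
        simpa using K.mul_mem h (K.inv_mem hy)
      exact hb1 (meet hJ hK hzu hP hbP hbJ hbK)
    · have hyb := hmoved v hvcen hvR hKv b hb
      have hbJ1 : b ∈ cj y J := by
        have h := cj_mem (g := y) hbJ
        rwa [hyb, mul_inv_cancel_right] at h
      rcases shared hJ hJ1 hmove.symm hP.isP hbP hbJ hbJ1 with e | e
      · exact hb1 e
      · apply hsqr v hvcen hvR hKv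
        rw [hb, e, ← pow_two, (Commute.symm hyz).mul_pow, pow_two, pow_two, hJ.sq, one_mul]

/-- The case of order 4 in which `u` moves `J`. -/
theorem four_moved_false (hyy : y * y = u) (hu : cj u J ≠ J) : False := by
  have hyu : y ∈ cen u := hK.le hy
  have hycen : y ∈ cen z := mem_cen.2 hyz
  have huinv : u⁻¹ = u := inv_eq_of_mul_eq_one_right hK.sq
  have hucen : u ∈ cen z := hyy ▸ mul_mem hycen hycen
  have huy : Commute u y := hyy ▸ (Commute.refl y).mul_left (Commute.refl y)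
  have hy4 : y ^ 2 ^ 2 = 1 := by
    calc y ^ 2 ^ 2 = (y * y) * (y * y) := by
          rw [show (2 : ℕ) ^ 2 = 2 + 2 from rfl, pow_add, pow_two]
      _ = 1 := by rw [hyy, hK.sq]
  obtain ⟨P, hP, hle⟩ := exists_syl (z := z) (isP_zpowers hy4) (zpowers_le.2 hycen)
  have hyP : y ∈ P := hle (mem_zpowers y)
  have huP : u ∈ P := hyy ▸ P.mul_mem hyP hyP
  obtain ⟨R, hR, hRle⟩ := exists_syl (z := u) (hP.isP.to_le (inf_le_left : P ⊓ cen u ≤ P))
    inf_le_right
  have hyR : y ∈ R := hRle ⟨hyP, hyu⟩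
  have hS := (hJ.qgrp hP).1
  have hJ1 := hJ.conj_cen hycen
  have hJ2 := hJ.conj_cen hucen
  have hJ3 := hJ2.conj_cen hycen
  have h12 : cj y J ≠ cj u J := by
    intro e
    rw [← hyy, cj_mul] at e
    exact hmove (cj_inj e.symm)
  have h03 : cj y (cj u J) ≠ J := by
    intro e
    rw [← cj_mul, cj_eq_iff] at e
    apply hmove
    rw [cj_eq_iff, ← inv_inv y]
    have : y⁻¹ = y * u := inv_eq_of_mul_eq_one_right (by rw [← mul_assoc, hyy, hK.sq])
    rw [this]
    exact inv_mem e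
  have h23 : cj y (cj u J) ≠ cj u J := by
    intro e
    rw [cj_comm huy.eq.symm] at e
    exact hmove (cj_inj e)
  have hzy : y * z * y⁻¹ = z := by rw [hyz, mul_inv_cancel_right]
  have huz : u * z * u = z := by
    rw [mem_cen.1 hucen, mul_assoc, hK.sq, mul_one]
  -- data attached to an element of order 4
  have hmem : ∀ a ∈ P ⊓ J, u * a * u ∈ P ∧ u * a * u ∈ cj u J := fun a ha =>
    ⟨P.mul_mem (P.mul_mem huP ha.1) huP, by
      have h := cj_mem (g := u) ha.2
      rwa [huinv] at h⟩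
  have hmem1 : ∀ a ∈ P, y * a * y⁻¹ ∈ P := fun a ha => P.mul_mem (P.mul_mem hyP ha) (P.inv_mem hyP)
  have cAB : ∀ a ∈ P ⊓ J, ∀ b ∈ P ⊓ J, Commute a (u * b * u) := fun a ha b hb =>
    hJ.commute hJ2 hu.symm hP.isP ha.2 ha.1 (hmem b hb).2 (hmem b hb).1
  have cVW : ∀ a ∈ P ⊓ J, ∀ b ∈ P ⊓ J,
      Commute (a * (u * a * u)) (y * (b * (u * b * u)) * y⁻¹) := by
    intro a ha b hb
    have e : y * (b * (u * b * u)) * y⁻¹ = (y * b * y⁻¹) * (y * (u * b * u) * y⁻¹) := by group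
    rw [e]
    refine (Commute.mul_left ?_ ?_).mul_right (Commute.mul_left ?_ ?_)
    · exact hJ.commute hJ1 hmove.symm hP.isP ha.2 ha.1 (cj_mem hb.2) (hmem1 _ hb.1)
    · exact hJ2.commute hJ1 h12.symm hP.isP (hmem a ha).2 (hmem a ha).1 (cj_mem hb.2)
        (hmem1 _ hb.1)
    · exact hJ.commute hJ3 h03.symm hP.isP ha.2 ha.1 (cj_mem (hmem b hb).2)
        (hmem1 _ (hmem b hb).1)
    · exact hJ2.commute hJ3 h23.symm hP.isP (hmem a ha).2 (hmem a ha).1 (cj_mem (hmem b hb).2)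
        (hmem1 _ (hmem b hb).1)
  have key : ∀ c ∈ P ⊓ J, c * c = z →
      let v := c * (u * c * u)
      let w := y * v * y⁻¹
      v ∈ cen u ∧ v ∈ R ∧ v * y * v⁻¹ = v * w * y ∧ cj v K ≠ K := by
    intro c hc hcc v w
    have hab : Commute c (u * c * u) := cAB c hc c hc
    have hvP : v ∈ P := P.mul_mem hc.1 (hmem c hc).1
    have huv : v * u = u * v := by
      calc v * u = c * u * c * (u * u) := by show c * (u * c * u) * u = _; group
        _ = (u * u) * (c * u * c) := by rw [hK.sq, mul_one, one_mul]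
        _ = u * ((u * c * u) * c) := by group
        _ = u * v := by rw [← hab.eq]
    have hvu : v ∈ cen u := mem_cen.2 huv
    have hvR : v ∈ R := hRle ⟨hvP, hvu⟩
    have hvv : v * v = 1 := by
      calc v * v = (c * c) * ((u * c * u) * (u * c * u)) := by
            show (c * (u * c * u)) * (c * (u * c * u)) = _
            rw [← pow_two, hab.mul_pow, pow_two, pow_two]
        _ = z * (u * (c * c) * u) := by
            rw [hcc, show (u * c * u) * (u * c * u) = u * (c * (u * u) * c) * u by group, hK.sq,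
              mul_one, hcc]
        _ = 1 := by rw [hcc, huz, hJ.sq]
    have hvinv : v⁻¹ = v := inv_eq_of_mul_eq_one_right hvv
    have hwinv : w⁻¹ = w := by
      show (y * v * y⁻¹)⁻¹ = y * v * y⁻¹
      rw [show (y * v * y⁻¹)⁻¹ = y * v⁻¹ * y⁻¹ by group, hvinv]
    have hb : v * y * v⁻¹ = v * w * y := by
      calc v * y * v⁻¹ = v * w⁻¹ * y := by show _ = v * (y * v * y⁻¹)⁻¹ * y; group
        _ = _ := by rw [hwinv]
    refine ⟨hvu, hvR, hb, fun hfix => ?_⟩
    have hbK : v * w ∈ K := by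
      have h := cj_mem (g := v) hy
      rw [hfix, hb] at h
      simpa using K.mul_mem h (K.inv_mem hy)
    have hww : w * w = 1 := by
      show (y * v * y⁻¹) * (y * v * y⁻¹) = 1
      rw [show (y * v * y⁻¹) * (y * v * y⁻¹) = y * (v * v) * y⁻¹ by group, hvv]
      group
    have hcVW : Commute v w := cVW c hc c hc
    have hbb : (v * w) * (v * w) = 1 := by
      rw [← pow_two, hcVW.mul_pow, pow_two, pow_two, hvv, hww, one_mul]
    rcases hK.uniq _ hbK hbb with e | e
    · have hvw : v = w := by rw [mul_eq_one_iff_eq_inv.1 e, hwinv]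
      obtain ⟨d, hd, hdd, hdc⟩ := hS.partner hc hcc
      have h1 : Commute d w := by
        have e' : w = (y * c * y⁻¹) * (y * (u * c * u) * y⁻¹) := by
          show y * (c * (u * c * u)) * y⁻¹ = _; group
        rw [e']
        exact Commute.mul_right (hJ.commute hJ1 hmove.symm hP.isP hd.2 hd.1 (cj_mem hc.2)
          (hmem1 _ hc.1)) (hJ.commute hJ3 h03.symm hP.isP hd.2 hd.1 (cj_mem (hmem c hc).2)
          (hmem1 _ (hmem c hc).1))
      have h2 : Commute d (u * c * u) := cAB d hd c hc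
      have h3 : Commute d c := by
        have h4 : Commute d v := hvw ▸ h1
        have h5 : c = v * (u * c * u)⁻¹ := by show c = c * (u * c * u) * _; group
        rw [h5]
        exact h4.mul_right h2.inv_right
      rw [← h3.eq] at hdc
      exact hJ.ne (mul_eq_left.1 hdc.symm)
    · apply hu
      rw [cj_eq_iff]
      have e' : w = (y * c * y⁻¹) * (y * (u * c * u) * y⁻¹) := by
        show y * (c * (u * c * u)) * y⁻¹ = _; group
      rw [← e, e']
      exact mul_mem (mul_mem (Subgroup.le_normalizer hc.2) (hJ.le_normalizer hJ2 (hmem c hc).2))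
        (mul_mem (hJ.le_normalizer hJ1 (cj_mem hc.2))
          (hJ.le_normalizer hJ3 (cj_mem (hmem c hc).2)))
  obtain ⟨c1, hc1, c2, hc2, h11, h22, h21⟩ := hS.exists_pair
  have hc3 : c1 * c2 ∈ P ⊓ J := Subgroup.mul_mem _ hc1 hc2
  have h33 : (c1 * c2) * (c1 * c2) = z := by
    have hcz : Commute c2 z := mem_cen.1 (hJ.le hc2.2)
    calc (c1 * c2) * (c1 * c2) = c1 * (c2 * c1) * c2 := by group
      _ = c1 * c1 * (c2 * (z * c2)) := by rw [h21]; group
      _ = z * (c2 * c2 * z) := by rw [h11, ← hcz.eq]; group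
      _ = z := by rw [h22, hJ.sq, mul_one]
  obtain ⟨hv1, hv1R, hb1, hm1⟩ := key c1 hc1 h11
  obtain ⟨hv2, hv2R, hb2, hm2⟩ := key c2 hc2 h22
  obtain ⟨hv3, hv3R, hb3, hm3⟩ := key _ hc3 h33
  set v1 := c1 * (u * c1 * u) with hv1d
  set v2 := c2 * (u * c2 * u) with hv2d
  set v3 := c1 * c2 * (u * (c1 * c2) * u) with hv3d
  set w1 := y * v1 * y⁻¹ with hw1d
  set w2 := y * v2 * y⁻¹ with hw2d
  have hv12 : v1 * v2 = v3 := by
    have h := cAB c2 hc2 c1 hc1
    calc v1 * v2 = c1 * ((u * c1 * u) * c2) * (u * c2 * u) := by rw [hv1d, hv2d]; group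
      _ = c1 * c2 * (u * c1 * (u * u) * c2 * u) := by rw [← h.eq]; group
      _ = v3 := by rw [hK.sq, hv3d]; group
  have hbb : (v1 * w1) * (v2 * w2) = v3 * (y * v3 * y⁻¹) := by
    have h : Commute w1 v2 := (cVW c2 hc2 c1 hc1).symm
    calc (v1 * w1) * (v2 * w2) = v1 * (w1 * v2) * w2 := by group
      _ = v1 * v2 * (y * (v1 * v2) * y⁻¹) := by rw [h.eq, hw1d, hw2d]; group
      _ = _ := by rw [hv12]
  -- the conjugates of `y`
  have hconj : ∀ v ∈ cen u, v ∈ R → cj v K ≠ K → ∀ e ∈ R ⊓ K, Commute e (v * y * v⁻¹) :=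
    fun v hv hvR hne e he => hK.commute (hK.conj_cen hv) hne.symm hR.isP he.2 he.1 (cj_mem hy)
      (R.mul_mem (R.mul_mem hvR hyR) (R.inv_mem hvR))
  have hyRK : y ∈ R ⊓ K := ⟨hyR, hy⟩
  have hkey : (v1 * y * v1⁻¹) * (v2 * y * v2⁻¹) = (v3 * y * v3⁻¹) * y := by
    have hcy2 : Commute y (v2 * w2) := by
      have h := hconj v2 hv2 hv2R hm2 y hyRK
      rw [hb2] at h
      show y * (v2 * w2) = v2 * w2 * y
      exact mul_right_cancel (b := y) (by rw [← mul_assoc, ← h.eq]; group)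
    rw [hb1, hb2, hb3, ← hbb]
    calc v1 * w1 * y * (v2 * w2 * y) = v1 * w1 * (y * (v2 * w2)) * y := by group
      _ = _ := by rw [hcy2.eq]; group
  have hcentral : ∀ e ∈ R ⊓ K, e * y = y * e := by
    intro e he
    have h1 := hconj v1 hv1 hv1R hm1 e he
    have h2 := hconj v2 hv2 hv2R hm2 e he
    have h3 := hconj v3 hv3 hv3R hm3 e he
    have h : Commute e y := by
      rw [show y = (v3 * y * v3⁻¹)⁻¹ * ((v1 * y * v1⁻¹) * (v2 * y * v2⁻¹)) by
        rw [hkey, inv_mul_cancel_left]]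
      exact h3.inv_right.mul_right (h1.mul_right h2)
    exact h
  rcases ((hK.qgrp hR).1).central hyRK hcentral with e | e
  · exact hK.ne (by rw [← hyy, e, mul_one])
  · rw [e, hK.sq] at hyy
    exact hK.ne hyy.symm

/-- If `u` fixes `J`, it inverts some element of order 4. -/
theorem exists_inverted (hyy : y * y = u) (hu : u ∈ normalizer (J : Set G)) {P : Subgroup G}
    (hP : Syl z P) (hyP : y ∈ P) : ∃ c ∈ P ⊓ J, c * c = z ∧ u * c * u = c * z := by
  by_contra hno
  push Not at hno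
  have hyu : y ∈ cen u := hK.le hy
  have hycen : y ∈ cen z := mem_cen.2 hyz
  have huinv : u⁻¹ = u := inv_eq_of_mul_eq_one_right hK.sq
  have huP : u ∈ P := hyy ▸ P.mul_mem hyP hyP
  have huy : Commute u y := hyy ▸ (Commute.refl y).mul_left (Commute.refl y)
  have huzc : Commute u z := mem_cen.1 (hP.le huP)
  have hS := (hJ.qgrp hP).1
  have hn' : ∀ a ∈ P ⊓ J, u * a * u ∈ P ⊓ J := by
    intro a ha
    refine ⟨P.mul_mem (P.mul_mem huP ha.1) huP, ?_⟩
    have := (Subgroup.mem_normalizer_iff.1 hu a).1 ha.2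
    rwa [huinv] at this
  have hfixu : ∀ a ∈ P ⊓ J, a * a = z → Commute u a := fun a ha haa => by
    show u * a = a * u
    calc u * a = (u * a * u) * u := by rw [mul_assoc _ u u, hK.sq, mul_one]
      _ = a * u := by rw [hS.fixed_of_no_inverted hK.sq hn' hno ha haa]
  obtain ⟨R, hR, hRle⟩ := exists_syl (z := u) (hP.isP.to_le (inf_le_left : P ⊓ cen u ≤ P))
    inf_le_right
  have hyR : y ∈ R := hRle ⟨hyP, hyu⟩
  have hzP : z ∈ P := hS.mem.1
  have hzu' : z ∈ cen u := mem_cen.2 huzc.symm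
  have hzR : z ∈ R := hRle ⟨hzP, hzu'⟩
  have hJ1 := hJ.conj_cen hycen
  have hzy : y * z * y⁻¹ = z := by rw [hyz, mul_inv_cancel_right]
  have hmem1 : ∀ a ∈ P, y * a * y⁻¹ ∈ P := fun a ha => P.mul_mem (P.mul_mem hyP ha) (P.inv_mem hyP)
  have cPJ : ∀ a ∈ P ⊓ J, ∀ b ∈ P ⊓ J, Commute a (y * b * y⁻¹) := fun a ha b hb =>
    hJ.commute hJ1 hmove.symm hP.isP ha.2 ha.1 (cj_mem hb.2) (hmem1 _ hb.1)
  have key : ∀ c ∈ P ⊓ J, c * c = z → let b := c * (y * c * y⁻¹)⁻¹
      c ∈ cen u ∧ c ∈ R ∧ c * y * c⁻¹ = b * y ∧ cj c K ≠ K := by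
    intro c hc hcc b
    have hcu : c ∈ cen u := mem_cen.2 (hfixu c hc hcc).eq.symm
    have hcR : c ∈ R := hRle ⟨hc.1, hcu⟩
    have hb : c * y * c⁻¹ = b * y := by show _ = c * (y * c * y⁻¹)⁻¹ * y; group
    refine ⟨hcu, hcR, hb, fun hfix => ?_⟩
    have hbK : b ∈ K := by
      have h := cj_mem (g := c) hy
      rw [hfix, hb] at h
      simpa using K.mul_mem h (K.inv_mem hy)
    have hbb : b * b = 1 := by
      show c * (y * c * y⁻¹)⁻¹ * (c * (y * c * y⁻¹)⁻¹) = 1
      rw [← pow_two, (cPJ c hc c hc).inv_right.mul_pow, pow_two, pow_two, hcc,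
        ← mul_inv_rev, show (y * c * y⁻¹) * (y * c * y⁻¹) = y * (c * c) * y⁻¹ by group, hcc, hzy,
        mul_inv_cancel]
    rcases hK.uniq b hbK hbb with e | e
    · have e' : c = y * c * y⁻¹ := mul_inv_eq_one.1 e
      rcases shared hJ hJ1 hmove.symm hP.isP hc.1 hc.2 (e'.symm ▸ cj_mem hc.2) with h | h
      · exact (hS.four_ne hcc).1 h
      · exact (hS.four_ne hcc).2 h
    · obtain ⟨d, hd, hdd, hdc⟩ := hS.partner hc hcc
      have h1 : Commute d c := by
        have h2 : c = b * (y * c * y⁻¹) := (inv_mul_cancel_right _ _).symm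
        rw [h2]
        exact Commute.mul_right (e ▸ (hfixu d hd hdd).symm) (cPJ d hd c hc)
      rw [← h1.eq] at hdc
      exact hJ.ne (mul_eq_left.1 hdc.symm)
  obtain ⟨c1, hc1, c2, hc2, h11, h22, h21⟩ := hS.exists_pair
  have hc3 : c1 * c2 ∈ P ⊓ J := Subgroup.mul_mem _ hc1 hc2
  have h33 : (c1 * c2) * (c1 * c2) = z := by
    have hcz : Commute c2 z := mem_cen.1 (hJ.le hc2.2)
    calc (c1 * c2) * (c1 * c2) = c1 * (c2 * c1) * c2 := by group
      _ = c1 * c1 * (c2 * (z * c2)) := by rw [h21]; group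
      _ = z * (c2 * c2 * z) := by rw [h11, ← hcz.eq]; group
      _ = z := by rw [h22, hJ.sq, mul_one]
  obtain ⟨hu1, hR1, hb1, hm1⟩ := key c1 hc1 h11
  obtain ⟨hu2, hR2, hb2, hm2⟩ := key c2 hc2 h22
  obtain ⟨hu3, hR3, hb3, hm3⟩ := key _ hc3 h33
  set d1 := y * c1 * y⁻¹ with hd1
  set d2 := y * c2 * y⁻¹ with hd2
  have hbb : (c1 * d1⁻¹) * (c2 * d2⁻¹) = z * (c1 * c2 * (y * (c1 * c2) * y⁻¹)⁻¹) := by
    have h : Commute c2 d1⁻¹ := (cPJ c2 hc2 c1 hc1).inv_right
    have hz2 : Commute (c1 * c2) z :=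
      ((Commute.mul_left (mem_cen.1 (hJ.le hc1.2)) (mem_cen.1 (hJ.le hc2.2))))
    calc (c1 * d1⁻¹) * (c2 * d2⁻¹) = c1 * (d1⁻¹ * c2) * d2⁻¹ := by group
      _ = c1 * c2 * (y * (c2 * c1) * y⁻¹)⁻¹ := by rw [← h.eq, hd1, hd2]; group
      _ = c1 * c2 * ((y * (c1 * c2) * y⁻¹) * z)⁻¹ := by
          rw [h21, show y * (c1 * c2 * z) * y⁻¹ = y * (c1 * c2) * y⁻¹ * (y * z * y⁻¹) by group, hzy]
      _ = (c1 * c2 * z) * (y * (c1 * c2) * y⁻¹)⁻¹ := by
          rw [mul_inv_rev, inv_eq_of_mul_eq_one_right hJ.sq]; group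
      _ = _ := by rw [hz2.eq]; group
  have hyRK : y ∈ R ⊓ K := ⟨hyR, hy⟩
  have hconj : ∀ v ∈ cen u, v ∈ R → cj v K ≠ K → ∀ e ∈ R ⊓ K, Commute e (v * y * v⁻¹) :=
    fun v hv hvR hne e he => hK.commute (hK.conj_cen hv) hne.symm hR.isP he.2 he.1 (cj_mem hy)
      (R.mul_mem (R.mul_mem hvR hyR) (R.inv_mem hvR))
  have hkey : (c1 * y * c1⁻¹) * (c2 * y * c2⁻¹) = z * ((c1 * c2 * y * (c1 * c2)⁻¹) * y) := by
    have hcy2 : Commute y (c2 * d2⁻¹) := by
      have h := hconj c2 hu2 hR2 hm2 y hyRK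
      rw [hb2] at h
      show y * (c2 * d2⁻¹) = c2 * d2⁻¹ * y
      exact mul_right_cancel (b := y) (by rw [← mul_assoc, ← h.eq]; group)
    rw [hb1, hb2, hb3]
    calc c1 * d1⁻¹ * y * (c2 * d2⁻¹ * y) = c1 * d1⁻¹ * (y * (c2 * d2⁻¹)) * y := by group
      _ = (c1 * d1⁻¹) * (c2 * d2⁻¹) * y * y := by rw [hcy2.eq]; group
      _ = _ := by rw [hbb]; group
  obtain ⟨k, hk, hkk, hky⟩ := ((hK.qgrp hR).1).partner hyRK hyy
  have hku : Commute k u := mem_cen.1 (hR.le hk.1)
  -- `z` acts on `R ⊓ K` as `y⁻¹` does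
  have hzk : z * k * z⁻¹ = k * u := by
    have hk' : y⁻¹ * k * y = k * u := by
      rw [mul_assoc, hky, ← mul_assoc, inv_mul_cancel_left]
    have h3 := hconj _ hu3 hR3 hm3 k hk
    have hmem' : k * u ∈ R ⊓ K := Subgroup.mul_mem _ hk ⟨(hK.qgrp hR).1.mem.1, hK.mem⟩
    have h1 := hconj c1 hu1 hR1 hm1 _ hmem'
    have h2 := hconj c2 hu2 hR2 hm2 _ hmem'
    set y3 := c1 * c2 * y * (c1 * c2)⁻¹
    set Y := (c1 * y * c1⁻¹) * (c2 * y * c2⁻¹) with hY
    have hz : z = Y * y⁻¹ * y3⁻¹ := by rw [hkey]; group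
    calc z * k * z⁻¹ = Y * y⁻¹ * (y3⁻¹ * k * y3) * y * Y⁻¹ := by rw [hz]; group
      _ = Y * (y⁻¹ * k * y) * Y⁻¹ := by rw [h3.inv_right.symm.eq, inv_mul_cancel_right]; group
      _ = k * u := by rw [hk', ← (h1.mul_right h2).eq, mul_inv_cancel_right]
  set k' := c1 * k * c1⁻¹ with hk'd
  have hkk' : Commute k k' := hK.commute (hK.conj_cen hu1) hm1.symm hR.isP hk.2 hk.1 (cj_mem hk.2)
    (R.mul_mem (R.mul_mem hR1 hk.1) (R.inv_mem hR1))
  have hc1z : Commute c1 z := mem_cen.1 (hJ.le hc1.2)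
  have hc1u : Commute u c1 := hfixu c1 hc1 h11
  have hzk' : z * k' * z⁻¹ = k' * u := by
    calc z * k' * z⁻¹ = c1 * (z * k * z⁻¹) * c1⁻¹ := by
          rw [hk'd, ← mul_assoc z, ← mul_assoc z, ← hc1z.eq, mul_assoc (c1 * z * k) c1⁻¹ z⁻¹,
            hc1z.inv_left.inv_right.eq]
          group
      _ = k' * u := by
          rw [hzk, hk'd, ← mul_assoc c1, mul_assoc (c1 * k) u, hc1u.inv_right.eq]
          group
  set d := k * k' with hd
  have hdd : d * d = 1 := by
    rw [hd, ← pow_two, hkk'.mul_pow, pow_two, pow_two, hkk, hk'd,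
      show c1 * k * c1⁻¹ * (c1 * k * c1⁻¹) = c1 * (k * k) * c1⁻¹ by group, hkk, ← hc1u.eq,
      mul_inv_cancel_right, hK.sq]
  have hdinv : d⁻¹ = d := inv_eq_of_mul_eq_one_right hdd
  have hk'R : k' ∈ R := R.mul_mem (R.mul_mem hR1 hk.1) (R.inv_mem hR1)
  have hdR : d ∈ R := R.mul_mem hk.1 hk'R
  have huk' : Commute k' u := mem_cen.1 (hR.le hk'R)
  have hdu : Commute d u := hku.mul_left huk'
  have hdz : d ∈ cen z := mem_cen.2 (by
    have h : z * d * z⁻¹ = d := by
      calc z * d * z⁻¹ = (z * k * z⁻¹) * (z * k' * z⁻¹) := by rw [hd]; group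
        _ = k * (u * k') * u := by rw [hzk, hzk']; group
        _ = k * k' * (u * u) := by rw [← huk'.eq]; group
        _ = d := by rw [hK.sq, mul_one, hd]
    exact (mul_inv_eq_iff_eq_mul.1 h).symm)
  have hc1d : c1 * d * c1⁻¹ = d * u := by
    calc c1 * d * c1⁻¹ = k' * ((c1 * c1) * k * (c1 * c1)⁻¹) := by rw [hd, hk'd]; group
      _ = k' * k * u := by rw [h11, hzk]; group
      _ = d * u := by rw [← hkk'.eq, hd]
  have hdc : d * c1 * d⁻¹ = c1 * u := by
    calc d * c1 * d⁻¹ = d * (c1 * d * c1⁻¹) * c1 := by rw [hdinv]; group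
      _ = (d * d) * (u * c1) := by rw [hc1d]; group
      _ = c1 * u := by rw [hdd, one_mul, hc1u.eq]
  have hJN := hJ.conj_cen hdz
  set N := cj d J with hN
  have hNc : c1 * u ∈ N := hdc ▸ cj_mem hc1.2
  have hNJ : N ≠ J := by
    intro e
    have : u ∈ J := inv_mul_cancel_left c1 u ▸ J.mul_mem (J.inv_mem hc1.2) (e ▸ hNc)
    rcases hJ.uniq u this hK.sq with h | h
    · exact hK.ne h
    · exact hzu h.symm
  obtain ⟨P', hP', hP'le⟩ := exists_syl (z := z) (hR.isP.to_le (inf_le_left : R ⊓ cen z ≤ R))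
    inf_le_right
  have hc1' : c1 ∈ P' := hP'le ⟨hR1, hJ.le hc1.2⟩
  have hc2' : c2 ∈ P' := hP'le ⟨hR2, hJ.le hc2.2⟩
  have hy' : y ∈ P' := hP'le ⟨hyR, hycen⟩
  have hu' : u ∈ P' := hyy ▸ P'.mul_mem hy' hy'
  have hd1' : d1 ∈ P' := P'.mul_mem (P'.mul_mem hy' hc1') (P'.inv_mem hy')
  have hd2' : d2 ∈ P' := P'.mul_mem (P'.mul_mem hy' hc2') (P'.inv_mem hy')
  have hJN1 := hJN.conj_cen hycen
  have hgN : d1 * u ∈ cj y N := by
    have h := cj_mem (g := y) hNc
    rwa [show y * (c1 * u) * y⁻¹ = d1 * u by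
      rw [hd1, mul_assoc, mul_assoc c1 u, huy.inv_right.eq]; group] at h
  by_cases hgJ : cj y N = J
  · have hud2 : Commute u d2 := (huy.mul_right (hfixu c2 hc2 h22)).mul_right huy.inv_right
    have h := hJ.commute hJ1 hmove.symm hP'.isP (hgJ ▸ hgN) (P'.mul_mem hd1' hu') (cj_mem hc2.2)
      hd2'
    have h' : Commute d1 d2 := by
      have hx : Commute (d1 * u) d2 := h
      have := hx.mul_left hud2
      rwa [mul_assoc, hK.sq, mul_one] at this
    have h12 : c1 * c2 = c2 * c1 := by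
      have := h'.eq
      rw [hd1, hd2] at this
      calc c1 * c2 = y⁻¹ * ((y * c1 * y⁻¹) * (y * c2 * y⁻¹)) * y := by group
        _ = y⁻¹ * ((y * c2 * y⁻¹) * (y * c1 * y⁻¹)) * y := by rw [this]
        _ = c2 * c1 := by group
    rw [← h12] at h21
    exact hJ.ne (mul_eq_left.1 h21.symm)
  · have h : Commute c2 c1 := by
      have e : c1 = (c1 * u) * (d1 * u)⁻¹ * d1 := by group
      rw [e]
      exact (Commute.mul_right (hJ.commute hJN hNJ.symm hP'.isP hc2.2 hc2' hNc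
          (P'.mul_mem hc1' hu'))
        (Commute.inv_right (hJ.commute hJN1 (Ne.symm hgJ) hP'.isP hc2.2 hc2' hgN
          (P'.mul_mem hd1' hu')))).mul_right
        (hJ.commute hJ1 hmove.symm hP'.isP hc2.2 hc2' (cj_mem hc1.2) hd1')
    rw [h.eq] at h21
    exact hJ.ne (mul_eq_left.1 h21.symm)

end

end Cfsg.Agent.H13.Intrinsic
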