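import Cfsg.Agent.H13.Intrinsic.Tools

/-!
The configuration in which `u` inverts an element of order 4 of `J`.
-/

set_option autoImplicit false
set_option linter.style.haveILetI false

namespace Cfsg.Agent.H13.Intrinsic

open Subgroup

variable {G : Type*} [Group G] [Finite G] {u z y : G} {J K : Subgroup G}

/-- What an inverted element gives. -/
structure Step (u z y c k v w x : G) (K L : Subgroup G) (R : Subgroup G) : Prop where
  vv : v * v = 1
  vu : Commute v u
  vz : Commute v z
  vy : v * y * v = z * y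
  cv : Commute c v
  cyc : c * y * c⁻¹ = v * z * y
  cuc : c * u * c⁻¹ = u * z
  move : cj v K ≠ K
  ww : w * w = 1
  wu : Commute w u
  wz : Commute w z
  wdef : w = k * (v * k * v)⁻¹
  xdef : x = y * u * w * v
  intr : Intr z L
  xL : x ∈ L
  xx : x * x = z
  xy : y * x * y⁻¹ = x * u * z
  xu : Commute u x
  xR : x ∈ R

theorem step2 (hK : Intr u K) (hzu : z ≠ u) (hzz : z * z = 1) (hz1 : z ≠ 1) (hy : y ∈ K)
    (hyy : y * y = u) (hyz : Commute y z) {c : G} (hcc : c * c = z) (huc : u * c * u = c * z)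
    (hcc1 : Commute c (y * c * y⁻¹)) {R : Subgroup G} (hR : IsPGroup 2 R) (hyR : y ∈ R)
    (hvR : c * (y * c * y⁻¹) ∈ R) {k : G} (hkR : k ∈ R) (hk : k ∈ K) (hkk : k * k = u)
    (hky : k * y = y * k * u) :
    Step u z y c k (c * (y * c * y⁻¹))
      (k * (c * (y * c * y⁻¹) * k * (c * (y * c * y⁻¹)))⁻¹)
      (y * u * (k * (c * (y * c * y⁻¹) * k * (c * (y * c * y⁻¹)))⁻¹) * (c * (y * c * y⁻¹)))
      K (cj (k * c⁻¹) K) R := by
  set c1 := y * c * y⁻¹ with hc1
  set v := c * c1 with hv
  set k' := v * k * v with hk'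
  set w := k * k'⁻¹ with hw
  have huinv : u⁻¹ = u := inv_eq_of_mul_eq_one_right hK.sq
  have hzinv : z⁻¹ = z := inv_eq_of_mul_eq_one_right hzz
  have huy : Commute u y := hyy ▸ (Commute.refl y).mul_left (Commute.refl y)
  have huz : Commute u z := hyy ▸ hyz.mul_left hyz
  have hku : Commute k u := mem_cen.1 (hK.le hk)
  have hcz : Commute c z := hcc ▸ (Commute.refl c).mul_right (Commute.refl c)
  have hzy : y * z * y⁻¹ = z := by rw [hyz.eq, mul_inv_cancel_right]
  have hc11 : c1 * c1 = z := by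
    rw [hc1, show y * c * y⁻¹ * (y * c * y⁻¹) = y * (c * c) * y⁻¹ by group, hcc, hzy]
  have hc1z : Commute c1 z := hc11 ▸ (Commute.refl c1).mul_right (Commute.refl c1)
  have hcinv : c⁻¹ = c * z := inv_eq_of_mul_eq_one_right (by rw [← mul_assoc, hcc, hzz])
  have hc1inv : c1⁻¹ = c1 * z := inv_eq_of_mul_eq_one_right (by rw [← mul_assoc, hc11, hzz])
  have hvv : v * v = 1 := by
    rw [hv, ← pow_two, hcc1.mul_pow, pow_two, pow_two, hcc, hc11, hzz]
  have hvinv : v⁻¹ = v := inv_eq_of_mul_eq_one_right hvv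
  have hvz : Commute v z := hcz.mul_left hc1z
  have huc' : u * c * u⁻¹ = c * z := by rw [huinv, huc]
  have huc1 : u * c1 * u⁻¹ = c1 * z := by
    calc u * c1 * u⁻¹ = (u * y) * c * (u * y)⁻¹ := by rw [hc1]; group
      _ = y * (u * c * u⁻¹) * y⁻¹ := by rw [huy.eq]; group
      _ = c1 * (y * z * y⁻¹) := by rw [huc', hc1]; group
      _ = c1 * z := by rw [hzy]
  have hvu : Commute v u := by
    have h : u * v * u⁻¹ = v := by
      calc u * v * u⁻¹ = (u * c * u⁻¹) * (u * c1 * u⁻¹) := by rw [hv]; group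
        _ = c * (z * c1) * z := by rw [huc', huc1]; group
        _ = v * (z * z) := by rw [← hc1z.eq, hv]; group
        _ = v := by rw [hzz, mul_one]
    exact (mul_inv_eq_iff_eq_mul.1 h).symm
  have hcv : Commute c v := (Commute.refl c).mul_right hcc1
  have hyv : y * v * y⁻¹ = v * z := by
    have e : y * c1 * y⁻¹ = c * z := by
      rw [← huc', ← hyy, hc1]; group
    calc y * v * y⁻¹ = (y * c * y⁻¹) * (y * c1 * y⁻¹) := by rw [hv]; group
      _ = (c1 * c) * z := by rw [e, hc1, mul_assoc (y * c * y⁻¹)]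
      _ = v * z := by rw [← hcc1.eq]
  have hvy : v * y * v = z * y := by
    calc v * y * v = v * (y * v * y⁻¹) * y := by group
      _ = (v * v) * z * y := by rw [hyv]; group
      _ = z * y := by rw [hvv, one_mul]
  have hcyc : c * y * c⁻¹ = v * z * y := by
    calc c * y * c⁻¹ = c * c1⁻¹ * y := by rw [hc1]; group
      _ = v * z * y := by rw [hc1inv, hv]; group
  have hvcen : v ∈ cen u := mem_cen.2 hvu.eq
  have hK' := hK.conj_cen hvcen
  have hzy' : z * y ∈ cj v K := by
    have h := cj_mem (g := v) hy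
    rwa [hvinv, hvy] at h
  have hmove : cj v K ≠ K := by
    intro e
    rw [e] at hzy'
    have hzK : z ∈ K := mul_inv_cancel_right z y ▸ K.mul_mem hzy' (K.inv_mem hy)
    rcases hK.uniq z hzK hzz with h | h
    · exact hz1 h
    · exact hzu h
  have hzyR : z * y ∈ R := hvy ▸ R.mul_mem (R.mul_mem hvR hyR) hvR
  have hzk : z * k * z⁻¹ = k * u := by
    have h : Commute k (z * y) := hK.commute hK' hmove.symm hR hk hkR hzy' hzyR
    have hyk : y * k * y⁻¹ = k * u := by
      rw [mul_inv_eq_iff_eq_mul]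
      calc y * k = y * k * (u * u) := by rw [hK.sq, mul_one]
        _ = (y * k * u) * u := by group
        _ = k * u * y := by rw [← hky, mul_assoc, ← huy.eq, ← mul_assoc]
    have h2 : (z * y) * k * (z * y)⁻¹ = k := by rw [← h.eq, mul_inv_cancel_right]
    have h3 : z * (k * u) * z⁻¹ = k := by
      rw [← hyk, show z * (y * k * y⁻¹) * z⁻¹ = z * y * k * (z * y)⁻¹ by group, h2]
    calc z * k * z⁻¹ = (z * (k * u) * z⁻¹) * (z * u * z⁻¹)⁻¹ := by group
      _ = k * u := by rw [h3, ← huz.eq, mul_inv_cancel_right, huinv]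
  have hk'u : Commute k' u := (hvu.mul_left hku).mul_left hvu
  have hk'K : k' ∈ cj v K := by
    have h := cj_mem (g := v) hk
    rwa [hvinv] at h
  have hk'R : k' ∈ R := R.mul_mem (R.mul_mem hvR hkR) hvR
  have hkk' : Commute k k' := hK.commute hK' hmove.symm hR hk hkR hk'K hk'R
  have hk'k' : k' * k' = u := by
    rw [hk', show v * k * v * (v * k * v) = v * (k * (v * v) * k) * v by group, hvv, mul_one, hkk,
      hvu.eq, mul_assoc, hvv, mul_one]
  have hww : w * w = 1 := by
    rw [hw, ← pow_two, hkk'.inv_right.mul_pow, pow_two, pow_two, hkk, ← mul_inv_rev, hk'k',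
      mul_inv_cancel]
  have hwu : Commute w u := hku.mul_left hk'u.inv_left
  have hzk' : z * k' * z⁻¹ = k' * u := by
    calc z * k' * z⁻¹ = (z * v * z⁻¹) * (z * k * z⁻¹) * (z * v * z⁻¹) := by rw [hk']; group
      _ = v * k * (u * v) := by rw [hzk, ← hvz.eq, mul_inv_cancel_right]; group
      _ = k' * u := by rw [← hvu.eq, hk']; group
  have hwz : Commute w z := by
    have h : z * w * z⁻¹ = w := by
      calc z * w * z⁻¹ = (z * k * z⁻¹) * (z * k' * z⁻¹)⁻¹ := by rw [hw]; group
        _ = k * (u * u⁻¹) * k'⁻¹ := by rw [hzk, hzk']; group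
        _ = w := by rw [mul_inv_cancel, mul_one, hw]
    exact (mul_inv_eq_iff_eq_mul.1 h).symm
  have hyw : y * w * y⁻¹ = w * u := by
    have h : Commute y k' := hK.commute hK' hmove.symm hR hy hyR hk'K hk'R
    have hyk : y * k = k * u * y := by
      calc y * k = y * k * (u * u) := by rw [hK.sq, mul_one]
        _ = (y * k * u) * u := by group
        _ = k * u * y := by rw [← hky, mul_assoc, ← huy.eq, ← mul_assoc]
    calc y * w * y⁻¹ = (y * k) * (k'⁻¹ * y⁻¹) := by rw [hw]; group
      _ = k * u * (y * y⁻¹) * k'⁻¹ := by rw [hyk, ← h.inv_inv.eq]; group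
      _ = k * (u * k'⁻¹) := by group
      _ = w * u := by rw [← hk'u.inv_left.eq, hw]; group
  set g := k * c⁻¹ with hg
  have hkz : k * z * k⁻¹ = z * u := by
    calc k * z * k⁻¹ = z * (z⁻¹ * k * z⁻¹⁻¹) * k⁻¹ := by group
      _ = z * (k * u) * k⁻¹ := by rw [hzinv, hzk]
      _ = z * u := by rw [hku.eq]; group
  have hcu : c⁻¹ * u * c = z * u := by
    rw [mul_assoc, inv_mul_eq_iff_eq_mul]
    calc u * c = (u * c * u⁻¹) * u := by group
      _ = c * (z * u) := by rw [huc']; group
  have hgu : g * u * g⁻¹ = z := by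
    calc g * u * g⁻¹ = k * (c⁻¹ * u * c) * k⁻¹ := by rw [hg]; group
      _ = (k * z * k⁻¹) * (k * u * k⁻¹) := by rw [hcu]; group
      _ = z := by rw [hkz, hku.eq, mul_inv_cancel_right, mul_assoc, hK.sq, mul_one]
  have hcuc : c * u * c⁻¹ = u * z := by
    have h : u * c = c * z * u := by
      calc u * c = (u * c * u⁻¹) * u := by group
        _ = c * z * u := by rw [huc']
    calc c * u * c⁻¹ = (c * z * u) * z * c⁻¹ := by
          rw [mul_assoc c z u, mul_assoc c _ z, mul_assoc z u z, huz.eq, ← mul_assoc z z u, hzz,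
            one_mul]
      _ = u * (c * z * c⁻¹) := by rw [← h]; group
      _ = u * z := by rw [hcz.eq, mul_inv_cancel_right]
  have hgy : g * y * g⁻¹ = y * u * w * v := by
    have e1 : c⁻¹ * y * c = z * v * y := by
      calc c⁻¹ * y * c = c⁻¹ * c1 * y := by rw [hc1]; group
        _ = z * v * y := by rw [hcinv, hcz.eq, hv]; group
    have e2 : k * v * k⁻¹ = w * v := by
      calc k * v * k⁻¹ = k * (v * k⁻¹ * v⁻¹) * v := by group
        _ = k * (v⁻¹ * k⁻¹ * v⁻¹) * v := by rw [hvinv]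
        _ = w * v := by rw [hw, hk']; group
    have e3 : k * y * k⁻¹ = y * u := by
      rw [hky, mul_assoc y k u, hku.eq]
      group
    have e4 : v * y = z * y * v := by
      calc v * y = v * y * (v * v) := by rw [hvv, mul_one]
        _ = z * y * v := by rw [← mul_assoc, hvy]
    have e5 : w * y = y * w * u := by
      calc w * y = (w * (u * u)) * y := by rw [hK.sq, mul_one]
        _ = (w * u) * (u * y) := by group
        _ = y * w * u := by rw [← hyw, huy.eq]; group
    calc g * y * g⁻¹ = k * (c⁻¹ * y * c) * k⁻¹ := by rw [hg]; group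
      _ = (k * z * k⁻¹) * (k * v * k⁻¹) * (k * y * k⁻¹) := by rw [e1]; group
      _ = z * (u * (w * v * y)) * u := by rw [hkz, e2, e3]; group
      _ = z * (w * v * y) * (u * u) := by
          rw [← ((hwu.mul_left hvu).mul_left huy.symm).eq]; group
      _ = (z * w) * (v * y) := by rw [hK.sq]; group
      _ = w * (z * z) * y * v := by rw [← hwz.eq, e4]; group
      _ = (w * y) * v := by rw [hzz, mul_one]
      _ = y * (w * u) * v := by rw [e5]; group
      _ = y * u * w * v := by rw [hwu.eq]; group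
  have hxu : Commute u (y * u * w * v) :=
    ((huy.mul_right (Commute.refl u)).mul_right hwu.symm).mul_right hvu.symm
  refine ⟨hvv, hvu, hvz, hvy, hcv, hcyc, hcuc, hmove, hww, hwu, hwz, rfl, rfl, hgu ▸ hK.conj g,
    hgy ▸ cj_mem hy, ?_, ?_, hxu, ?_⟩
  · rw [← hgy, show g * y * g⁻¹ * (g * y * g⁻¹) = g * (y * y) * g⁻¹ by group, hyy, hgu]
  · calc y * (y * u * w * v) * y⁻¹ = y * (y * u * y⁻¹) * (y * w * y⁻¹) * (y * v * y⁻¹) := by group
      _ = y * u * w * (u * v) * z := by
          rw [show y * u * y⁻¹ = u by rw [← huy.eq, mul_inv_cancel_right], hyw, hyv]; group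
      _ = y * u * w * v * u * z := by rw [← hvu.eq]; group
  · exact R.mul_mem (R.mul_mem (R.mul_mem hyR (hkk ▸ R.mul_mem hkR hkR))
      (R.mul_mem hkR (R.inv_mem hk'R))) hvR

omit [Finite G] in
/-- A partner of `x` is inverted by `u`. -/
theorem inverted_of_data {x c : G} (hzz : z * z = 1) (huz : Commute u z) (hcz : Commute c z)
    (hyx : y * x * y⁻¹ = x * u * z) (hc1 : Commute c (y * x * y⁻¹)) (hcx : c * x = x * c * z) :
    u * c * u⁻¹ = c * z := by
  rw [hyx] at hc1
  rw [mul_inv_eq_iff_eq_mul]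
  have h : x * u * z * c = x * c * z * u * z := by
    rw [← hc1.eq, ← mul_assoc, ← mul_assoc, hcx]
  have h2 : u * (z * c) = c * z * u * z := by
    apply mul_left_cancel (a := x)
    calc x * (u * (z * c)) = x * u * z * c := by group
      _ = _ := by rw [h]; group
  rw [← hcz.eq, ← mul_assoc] at h2
  exact mul_right_cancel h2

/-- A 2-component of `C(z)` on which `u` inverts an element is one of the pair. -/
theorem pair_of_inverted (hJ : Intr z J) (hycen : y ∈ cen z) (hucen : u ∈ cen z) {x : G}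
    (hx : x ∈ J) (hyx : y * x * y⁻¹ = x * u * z) {M : Subgroup G} (hM : Intr z M) {a : G}
    (ha : a ∈ M) (hua : u * a * u⁻¹ = a * z) : M = J ∨ M = cj y J := by
  by_contra h
  push Not at h
  have hJ1 := hJ.conj_cen hycen
  set x1 := y * x * y⁻¹ with hx1
  have hzz := hJ.sq
  have haz : Commute a z := mem_cen.1 (hM.le ha)
  have huz : Commute u z := mem_cen.1 hucen
  have hu' : u = x⁻¹ * x1 * z := by
    rw [hyx, mul_assoc x, inv_mul_cancel_left, mul_assoc, hzz, mul_one]
  have h1 : x⁻¹ * a * x * a⁻¹ ∈ core z := by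
    have := hJ.comm_le hM h.1.symm x⁻¹ (J.inv_mem hx) a ha
    rwa [inv_inv] at this
  have h2 : x⁻¹ * (x1 * a * x1⁻¹ * a⁻¹) * x⁻¹⁻¹ ∈ core z :=
    core_conj (hJ.le (J.inv_mem hx)) (hJ1.comm_le hM h.2.symm x1 (cj_mem hx) a ha)
  have h3 := (core z).mul_mem h2 h1
  have hzcore : z ∈ core z := by
    convert h3 using 1
    calc z = a * z * a⁻¹ := by rw [haz.eq, mul_inv_cancel_right]
      _ = u * a * u⁻¹ * a⁻¹ := by rw [hua]
      _ = x⁻¹ * x1 * (z * a * z⁻¹) * x1⁻¹ * x * a⁻¹ := by rw [hu']; group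
      _ = x⁻¹ * x1 * a * x1⁻¹ * x * a⁻¹ := by rw [← haz.eq, mul_inv_cancel_right]
      _ = _ := by group
  exact hJ.ne (eq_one_of_two_of_core (isP_zpowers (k := 1) (by rw [pow_one, pow_two, hzz]))
    (mem_zpowers z) hzcore)

end Cfsg.Agent.H13.Intrinsic
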