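import Cfsg.Agent.H13.Intrinsic.Moves
import Cfsg.Agent.H13.Intrinsic.Step

/-!
A 2-element of order at least 4 of `K` that commutes with `z` normalises `J`.
-/

set_option autoImplicit false
set_option linter.style.haveILetI false

namespace Cfsg.Agent.H13.Intrinsic

open Subgroup

variable {G : Type*} [Group G] [Finite G] {u z y : G} {J K : Subgroup G}

/-- From `y x y⁻¹ = x u z` an element inverted by `u` is obtained. -/
theorem exists_partner_inverted (hJ : Intr z J) (hycen : y ∈ cen z) (huz : Commute u z)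
    (hmove : cj y J ≠ J) {x : G} (hx : x ∈ J) (hxx : x * x = z) (hyx : y * x * y⁻¹ = x * u * z)
    {P : Subgroup G} (hP : Syl z P) (hyP : y ∈ P) (hxP : x ∈ P) :
    ∃ c ∈ P ⊓ J, c * c = z ∧ c * x = x * c * z ∧ u * c * u⁻¹ = c * z := by
  obtain ⟨c, hc, hcc, hcx⟩ := ((hJ.qgrp hP).1).partner (a := x) ⟨hxP, hx⟩ hxx
  have hc1 : Commute c (y * x * y⁻¹) := hJ.commute (hJ.conj_cen hycen) hmove.symm hP.isP hc.2 hc.1
    (cj_mem hx) (P.mul_mem (P.mul_mem hyP hxP) (P.inv_mem hyP))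
  exact ⟨c, hc, hcc, hcx, inverted_of_data hJ.sq huz (mem_cen.1 (hJ.le hc.2)) hyx hc1 hcx⟩

omit [Finite G] in
/-- A 2-component containing `x` with `y x y⁻¹ = x u z` is moved by `y`. -/
theorem moved_of_data {L : Subgroup G} (hL : Intr z L) (hu1 : u ≠ 1) (huu : u * u = 1) (hzu : z ≠ u)
    (huz : Commute u z) {x : G} (hx : x ∈ L) (hyx : y * x * y⁻¹ = x * u * z) : cj y L ≠ L := by
  intro e
  have h : x * u * z ∈ L := hyx ▸ e.le (cj_mem hx)
  rw [mul_assoc] at h
  have h' : u * z ∈ L := inv_mul_cancel_left x (u * z) ▸ L.mul_mem (L.inv_mem hx) h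
  have hsq : (u * z) * (u * z) = 1 := by
    rw [← pow_two, huz.mul_pow, pow_two, pow_two, huu, hL.sq, one_mul]
  rcases hL.uniq _ h' hsq with e' | e'
  · exact hzu ((mul_eq_one_iff_eq_inv.1 e').trans (inv_eq_of_mul_eq_one_right hL.sq)).symm
  · exact hu1 (mul_eq_right.1 e')

theorem final_false (hK : Intr u K) (hJ : Intr z J) (hy : y ∈ K) (hyy : y * y = u)
    (hyz : Commute y z) (hzu : z ≠ u) (hmove : cj y J ≠ J) {x : G} (hx : x ∈ J) (hxx : x * x = z)
    (hyx : y * x * y⁻¹ = x * u * z) (hxu : Commute u x) {Q : Subgroup G} (hQ : IsPGroup 2 Q)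
    (hxQ : x ∈ Q) (hyQ : y ∈ Q) : False := by
  have huinv : u⁻¹ = u := inv_eq_of_mul_eq_one_right hK.sq
  have hzinv : z⁻¹ = z := inv_eq_of_mul_eq_one_right hJ.sq
  have hyu : y ∈ cen u := hK.le hy
  have hycen : y ∈ cen z := mem_cen.2 hyz.eq
  have hucen : u ∈ cen z := hyy ▸ mul_mem hycen hycen
  have huz : Commute u z := mem_cen.1 hucen
  have huy : Commute u y := hyy ▸ (Commute.refl y).mul_left (Commute.refl y)
  have hJ1 := hJ.conj_cen hycen
  obtain ⟨P, hP, hxP, hyP⟩ := exists_syl_pair (hJ.le hx) hycen hQ hxQ hyQ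
  have huP : u ∈ P := hyy ▸ P.mul_mem hyP hyP
  have hzP : z ∈ P := hxx ▸ P.mul_mem hxP hxP
  have hu_fix : cj u J = J := by
    by_contra hne
    have h : x ∈ cj u J := by
      have h := cj_mem (g := u) hx
      rwa [hxu.eq, mul_inv_cancel_right] at h
    rcases shared hJ (hJ.conj_cen hucen) (Ne.symm hne) hP.isP hxP hx h with e | e
    · rw [e, mul_one] at hxx
      exact hJ.ne hxx.symm
    · rw [e, hJ.sq] at hxx
      exact hJ.ne hxx.symm
  obtain ⟨c, hc, hcc, hcx, huc⟩ := exists_partner_inverted hJ hycen huz hmove hx hxx hyx hP hyP hxP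
  have hc1P : y * c * y⁻¹ ∈ P := P.mul_mem (P.mul_mem hyP hc.1) (P.inv_mem hyP)
  have hcc1 : Commute c (y * c * y⁻¹) := hJ.commute hJ1 hmove.symm hP.isP hc.2 hc.1 (cj_mem hc.2) hc1P
  have hcz : Commute c z := mem_cen.1 (hJ.le hc.2)
  set v := c * (y * c * y⁻¹) with hv
  have hvu : v ∈ cen u := by
    have hucu : u * c * u⁻¹ = c * z := huc
    have h1 : u * (y * c * y⁻¹) * u⁻¹ = y * c * y⁻¹ * z := by
      calc u * (y * c * y⁻¹) * u⁻¹ = (u * y) * c * (u * y)⁻¹ := by group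
        _ = y * (u * c * u⁻¹) * y⁻¹ := by rw [huy.eq]; group
        _ = y * c * y⁻¹ * (y * z * y⁻¹) := by rw [huc]; group
        _ = y * c * y⁻¹ * z := by rw [hyz.eq, mul_inv_cancel_right]
    have h2 : u * v * u⁻¹ = v := by
      calc u * v * u⁻¹ = (u * c * u⁻¹) * (u * (y * c * y⁻¹) * u⁻¹) := by rw [hv]; group
        _ = c * (z * (y * c * y⁻¹)) * z := by rw [huc, h1]; group
        _ = v * (z * z) := by rw [← (mem_cen.1 (hJ1.le (cj_mem hc.2))), hv]; group
        _ = v := by rw [hJ.sq, mul_one]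
    exact mem_cen.2 (mul_inv_eq_iff_eq_mul.1 h2).symm
  obtain ⟨R, hR, hRle⟩ := exists_syl (z := u) (hP.isP.to_le (inf_le_left : P ⊓ cen u ≤ P))
    inf_le_right
  have hyR : y ∈ R := hRle ⟨hyP, hyu⟩
  have hxR : x ∈ R := hRle ⟨hxP, mem_cen.2 hxu.eq.symm⟩
  have hvR : v ∈ R := hRle ⟨P.mul_mem hc.1 hc1P, hvu⟩
  obtain ⟨k, hk, hkk, hky⟩ := ((hK.qgrp hR).1).partner (a := y) ⟨hyR, hy⟩ hyy
  have huc' : u * c * u = c * z := by rw [← huc, huinv]
  have st := step2 hK hzu hJ.sq hJ.ne hy hyy hyz hcc huc' hcc1 hR.isP hyR hvR hk.1 hk.2 hkk hky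
  obtain ⟨w, hw⟩ : ∃ w, w = k * (v * k * v)⁻¹ := ⟨_, rfl⟩
  obtain ⟨x', hx'⟩ : ∃ x', x' = y * u * w * v := ⟨_, rfl⟩
  rw [← hv, ← hw, ← hx'] at st
  set L := cj (k * c⁻¹) K with hL
  have hLz := st.intr
  -- every element that `u` inverts lies in `J` or its conjugate
  have hpair : ∀ (M : Subgroup G), Intr z M → ∀ a ∈ M, u * a * u⁻¹ = a * z → M = J ∨ M = cj y J :=
    fun M hM a ha hua => pair_of_inverted hJ hycen hucen hx hyx hM ha hua
  have hwhich : ∀ (M : Subgroup G), Intr z M → ∀ t ∈ M, t * t = z → y * t * y⁻¹ = t * u * z →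
      ∀ (T : Subgroup G), IsPGroup 2 T → t ∈ T → y ∈ T → M = J ∨ M = cj y J := by
    intro M hM t ht htt hyt T hT htT hyT
    obtain ⟨P', hP', ht', hy'⟩ := exists_syl_pair (hM.le ht) hycen hT htT hyT
    obtain ⟨a, ha, -, -, hua⟩ := exists_partner_inverted hM hycen huz
      (moved_of_data hM hK.ne hK.sq hzu huz ht hyt) ht htt hyt hP' hy' ht'
    exact hpair M hM a ha.2 hua
  obtain ⟨P', hP', hP'le⟩ := exists_syl (z := z) (hR.isP.to_le (inf_le_left : R ⊓ cen z ≤ R))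
    inf_le_right
  have hxP' : x ∈ P' := hP'le ⟨hxR, hJ.le hx⟩
  have hx'P' : x' ∈ P' := hP'le ⟨st.xR, hLz.le st.xL⟩
  have hyP' : y ∈ P' := hP'le ⟨hyR, hycen⟩
  have huP' : u ∈ P' := hyy ▸ P'.mul_mem hyP' hyP'
  have hzP' : z ∈ P' := hxx ▸ P'.mul_mem hxP' hxP'
  have huzinv : (u * z)⁻¹ = u * z := by rw [mul_inv_rev, huinv, hzinv, huz.eq]
  have hxz : Commute x z := mem_cen.1 (hJ.le hx)
  -- `x'` is `x` up to the four group `⟨u, z⟩`
  obtain ⟨ζ, hζ, hζ'⟩ : ∃ ζ, x' = x * ζ ∧ (ζ = 1 ∨ ζ = z ∨ ζ = u ∨ ζ = u * z) := by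
    rcases hwhich L hLz x' st.xL st.xx st.xy R hR.isP st.xR hyR with e | e
    · have ht : x' * x⁻¹ ∈ J := J.mul_mem (e ▸ st.xL) (J.inv_mem hx)
      have ht1 : x' * x⁻¹ ∈ cj y J := by
        have h := (cj y J).mul_mem (cj_mem (g := y) (e.le st.xL)) ((cj y J).inv_mem (cj_mem hx))
        rwa [st.xy, hyx, show x' * u * z * (x * u * z)⁻¹ = x' * x⁻¹ by group] at h
      rcases shared hJ hJ1 hmove.symm hP'.isP (P'.mul_mem hx'P' (P'.inv_mem hxP')) ht ht1 with
        h | h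
      · exact ⟨1, by rw [mul_one]; exact mul_inv_eq_one.1 h, Or.inl rfl⟩
      · exact ⟨z, by rw [mul_inv_eq_iff_eq_mul.1 h, hxz.eq], Or.inr (Or.inl rfl)⟩
    · have hy2 : cj y (cj y J) = J := by rw [← cj_mul, hyy, hu_fix]
      have ht : y * x' * y⁻¹ * x⁻¹ ∈ J := by
        have h := cj_mem (g := y) (e.le st.xL)
        rw [hy2] at h
        exact J.mul_mem h (J.inv_mem hx)
      have ht1 : y * x' * y⁻¹ * x⁻¹ ∈ cj y J := by
        have h := (cj y J).mul_mem (e.le st.xL) ((cj y J).inv_mem (cj_mem (g := y) hx))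
        rwa [hyx, mul_assoc x u z, mul_inv_rev, huzinv, ← mul_assoc, ← mul_assoc,
          ← st.xy] at h
      rcases shared hJ hJ1 hmove.symm hP'.isP
        (P'.mul_mem (P'.mul_mem (P'.mul_mem hyP' hx'P') (P'.inv_mem hyP')) (P'.inv_mem hxP'))
        ht ht1 with h | h
      · refine ⟨u * z, ?_, Or.inr (Or.inr (Or.inr rfl))⟩
        rw [← mul_inv_eq_one.1 h, st.xy, mul_assoc, mul_assoc, ← huzinv, ← mul_assoc u z,
          mul_inv_cancel, mul_one]
      · refine ⟨u, ?_, Or.inr (Or.inr (Or.inl rfl))⟩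
        rw [mul_inv_eq_iff_eq_mul, st.xy, ← hxz.eq, mul_assoc, huz.eq] at h
        calc x' = x' * (z * u) * (u * z) := by
              rw [mul_assoc x', mul_assoc z u, ← mul_assoc u u z, hK.sq, one_mul, hJ.sq, mul_one]
          _ = x * u := by rw [h, mul_assoc x z, ← mul_assoc z u z, ← huz.eq, mul_assoc u z z, hJ.sq, mul_one]
  have hvinv : v⁻¹ = v := inv_eq_of_mul_eq_one_right st.vv
  have hw' : w = y * x * ζ * v := by
    have e : (y * u)⁻¹ = y := inv_eq_of_mul_eq_one_left (by rw [← mul_assoc, hyy, hK.sq])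
    calc w = (y * u)⁻¹ * x' * v⁻¹ := by rw [hx']; group
      _ = y * x * ζ * v := by rw [e, hvinv, hζ, mul_assoc y x ζ]
  set σ := c * w * c⁻¹ with hσ
  have hwz := st.wz
  have hσσ : σ * σ = 1 := by
    rw [hσ, show c * w * c⁻¹ * (c * w * c⁻¹) = c * (w * w) * c⁻¹ by group, st.ww]
    group
  have hσinv : σ⁻¹ = σ := inv_eq_of_mul_eq_one_right hσσ
  have hσy : σ * y * σ⁻¹ = u * z * y := by
    have hcxc : c * x * c⁻¹ = x * z := by
      rw [hcx, mul_assoc x c z, hcz.eq]; group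
    have hζc : Commute (c * ζ * c⁻¹) (z * y) := by
      have hzy1 : Commute z (z * y) := (Commute.refl z).mul_right hyz.symm
      have huzy : Commute u (z * y) := huz.mul_right huy
      rcases hζ' with rfl | rfl | rfl | rfl
      · rw [mul_one, mul_inv_cancel]; exact Commute.one_left _
      · rw [hcz.eq, mul_inv_cancel_right]; exact hzy1
      · rw [st.cuc]; exact huzy.mul_left hzy1
      · rw [show c * (u * z) * c⁻¹ = (c * u * c⁻¹) * (c * z * c⁻¹) by group, st.cuc, hcz.eq,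
          mul_inv_cancel_right, mul_assoc, hJ.sq, mul_one]
        exact huzy
    have hσeq : σ = (v * z * y) * (x * z) * (c * ζ * c⁻¹) * v := by
      calc σ = (c * y * c⁻¹) * (c * x * c⁻¹) * (c * ζ * c⁻¹) * (c * v * c⁻¹) := by
            rw [hσ, hw']; group
        _ = _ := by rw [st.cyc, hcxc, st.cv.eq, mul_inv_cancel_right]
    have hxyx : x * y * x⁻¹ = u * z * y := by
      have h1 : x⁻¹ * y * x = u * z * y := by
        rw [mul_assoc, inv_mul_eq_iff_eq_mul]
        calc y * x = (y * x * y⁻¹) * y := by group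
          _ = _ := by rw [hyx]; group
      have h2 : Commute z (u * z * y) := (huz.symm.mul_right (Commute.refl z)).mul_right hyz.symm
      calc x * y * x⁻¹ = (x * x) * (x⁻¹ * y * x) * (x * x)⁻¹ := by group
        _ = u * z * y := by rw [h1, hxx, h2.eq, mul_inv_cancel_right]
    calc σ * y * σ⁻¹ = (v * z * y) * ((x * z) * ((c * ζ * c⁻¹) * (v * y * v⁻¹) *
          (c * ζ * c⁻¹)⁻¹) * (x * z)⁻¹) * (v * z * y)⁻¹ := by rw [hσeq]; group
      _ = (v * z * y) * ((x * z) * (z * y) * (x * z)⁻¹) * (v * z * y)⁻¹ := by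
          rw [hvinv, st.vy, hζc.eq, mul_inv_cancel_right]
      _ = (v * z * y) * (u * y) * (v * z * y)⁻¹ := by
          have h : (x * z) * (z * y) * (x * z)⁻¹ = u * y := by
            calc (x * z) * (z * y) * (x * z)⁻¹ = x * (z * z) * (y * z⁻¹) * x⁻¹ := by group
              _ = x * (z * y) * x⁻¹ := by rw [hJ.sq, mul_one, hzinv, hyz.eq]
              _ = z * (x * y * x⁻¹) := by rw [← mul_assoc x z y, hxz.eq]; group
              _ = z * z * (u * y) := by rw [hxyx, huz.eq]; group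
              _ = u * y := by rw [hJ.sq, one_mul]
          rw [h]
      _ = v * ((z * y) * (u * y) * (z * y)⁻¹) * v⁻¹ := by group
      _ = v * (u * y) * v := by
          rw [((huz.symm.mul_right hyz.symm).mul_left (huy.symm.mul_right (Commute.refl y))).eq,
            mul_inv_cancel_right, hvinv]
      _ = (v * u) * y * v := by group
      _ = u * (v * y * v) := by rw [st.vu.eq]; group
      _ = u * z * y := by rw [st.vy, mul_assoc]
  have hσu : σ ∈ cen u := by
    have hsq : σ * u * σ⁻¹ = u := by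
      calc σ * u * σ⁻¹ = (σ * y * σ⁻¹) * (σ * y * σ⁻¹) := by rw [← hyy]; group
        _ = (u * z) * (y * (u * z)) * y := by rw [hσy]; group
        _ = (u * z) * (u * z) * (y * y) := by rw [(huy.symm.mul_right hyz).eq]; group
        _ = u := by
          rw [hyy, ← pow_two, huz.mul_pow, pow_two, pow_two, hK.sq, hJ.sq, one_mul, one_mul]
    exact mem_cen.2 (mul_inv_eq_iff_eq_mul.1 hsq)
  have hzσ : Commute z σ := (hcz.symm.mul_right hwz.symm).mul_right hcz.symm.inv_right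
  have hσmove : cj σ K ≠ K := by
    intro e
    have h := e.le (cj_mem (g := σ) hy)
    rw [hσy] at h
    have hzK : z ∈ K := by
      have h2 := K.mul_mem (K.inv_mem hK.mem) (K.mul_mem h (K.inv_mem hy))
      rwa [mul_inv_cancel_right, inv_mul_cancel_left] at h2
    rcases hK.uniq z hzK hJ.sq with h' | h'
    · exact hJ.ne h'
    · exact hzu h'
  have hy4 : y ^ 2 ^ 2 = 1 := by
    rw [show (2 : ℕ) ^ 2 = 2 + 2 from rfl, pow_add, pow_two, hyy, hK.sq]
  have hσyσ : σ * y * σ = u * z * y := by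
    have h := hσy
    rwa [hσinv] at h
  have hz_layer : z ∈ Cfsg.pLayerOf 2 (cen σ) := by
    have h := diag hK hσσ hσu hσmove hy hy4 (by
      rw [hσyσ]
      exact ((huy.symm.mul_right hyz).mul_right (Commute.refl y)).eq)
    rw [hσyσ, show y * (u * z * y) = z by
      rw [← mul_assoc, (huy.symm.mul_right hyz).eq, mul_assoc, hyy, huz.eq, mul_assoc, hK.sq,
        mul_one], inf_comm] at h
    exact balance hK.sq (mem_cen.2 (mem_cen.1 hσu).symm) h
  have hzN : ∀ M : Subgroup G, Intr w M → cj z M = M := by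
    intro M hM
    have h := (hM.conj c).pLayerOf_le_normalizer hz_layer
    rw [← cj_eq_iff, cj_comm hcz.symm.eq] at h
    exact cj_inj h
  -- a conjugator of `y` to `k`
  haveI := hK.perfect
  obtain ⟨hqR, hidx⟩ := hK.qgrp hR
  obtain ⟨a, ha, hak⟩ := four_conj hK.perfect hK.sq hK.mem hK.ne hK.uniq hqR inf_le_right hidx
    hy hk.2 hyy hkk
  have hvK' := hK.conj_cen hvu
  have hmoveK := st.move
  set q := qc u with hq
  let Y0 : ↥(cen u) := ⟨y, hyu⟩
  let A : ↥(cen u) := ⟨a, hK.le ha⟩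
  let V : ↥(cen u) := ⟨v, hvu⟩
  let Kb : ↥(cen u) := ⟨k, hK.le hk.2⟩
  let Z0 : ↥(cen u) := ⟨z, mem_cen.2 huz.symm.eq⟩
  have hVV : q V * q V = 1 := by rw [← map_mul, show V * V = 1 from Subtype.ext st.vv, map_one]
  have hVinv : (q V)⁻¹ = q V := inv_eq_of_mul_eq_one_right hVV
  have hVY : q V * q Y0 * q V = q Z0 * q Y0 := by
    rw [← map_mul, ← map_mul, ← map_mul]
    exact congrArg q (Subtype.ext st.vy)
  have hAY : q A * q Y0 * (q A)⁻¹ = q Kb := by
    rw [← map_mul, ← map_inv, ← map_mul]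
    exact congrArg q (Subtype.ext hak)
  have hcomm : ∀ p p' : ↥(cen u), (p : G) ∈ K → (p' : G) ∈ cj v K →
      Commute (q p) (q p') := fun p p' hp hp' => qc_comm hK hvK' hmoveK.symm hp hp'
  have hconjK : ∀ p : ↥(cen u), (p : G) ∈ K → ((V * p * V : ↥(cen u)) : G) ∈ cj v K := by
    intro p hp
    have h := cj_mem (g := v) hp
    rwa [hvinv] at h
  let η0 : ↥(cen u) := A * (V * A * V)
  set k0 := a⁻¹ * y * a with hk0
  have hk0K : k0 ∈ K := K.mul_mem (K.mul_mem (K.inv_mem ha) hy) ha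
  let K0 : ↥(cen u) := A⁻¹ * Y0 * A
  have hK0 : q K0 = (q A)⁻¹ * q Y0 * q A := by simp only [K0, map_mul, map_inv]
  let W : ↥(cen u) := Kb * (V * Kb * V)⁻¹
  have hWw : (W : G) = w := hw.symm
  have hEY : q η0 * q Y0 * (q η0)⁻¹ = q Kb := by
    have h : Commute (q (V * A * V)) (q Y0) := (hcomm Y0 _ hy (hconjK A ha)).symm
    calc q η0 * q Y0 * (q η0)⁻¹ = q A * (q (V * A * V) * q Y0 * (q (V * A * V))⁻¹) * (q A)⁻¹ := by
          simp only [η0, map_mul]; group
      _ = q Kb := by rw [h.eq, mul_inv_cancel_right, hAY]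
  have hEY' : q η0 * (q V * q Y0 * q V) * (q η0)⁻¹ = q V * q Kb * q V := by
    have h : Commute (q A) (q V * q Kb * q V) := by
      rw [← map_mul, ← map_mul]
      exact hcomm A _ ha (hconjK Kb hk.2)
    calc q η0 * (q V * q Y0 * q V) * (q η0)⁻¹
        = q A * (q V * q A * (q V * q V) * q Y0 * (q V * (q V)⁻¹) * (q A)⁻¹ * (q V)⁻¹) * (q A)⁻¹ := by
          simp only [η0, map_mul]; group
      _ = q A * (q V * (q A * q Y0 * (q A)⁻¹) * q V) * (q A)⁻¹ := by
          rw [hVV, mul_inv_cancel, hVinv]; group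
      _ = q V * q Kb * q V := by rw [hAY, h.eq, mul_inv_cancel_right]
  have hEY2 : (q η0)⁻¹ * q Y0 * q η0 = q K0 := by
    have h : Commute (q K0) (q (V * A * V)) := hcomm K0 _ hk0K (hconjK A ha)
    calc (q η0)⁻¹ * q Y0 * q η0
        = (q (V * A * V))⁻¹ * (q A⁻¹ * q Y0 * q A) * q (V * A * V) := by
          simp only [η0, map_mul, map_inv]; group
      _ = (q (V * A * V))⁻¹ * q K0 * q (V * A * V) := by simp only [K0, map_mul, map_inv]
      _ = q K0 := by rw [h.inv_right.symm.eq, inv_mul_cancel_right]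
  have hEY'2 : (q η0)⁻¹ * (q V * q Y0 * q V) * q η0 = q V * q K0 * q V := by
    have h : Commute (q A) (q V * q Y0 * q V) := by
      rw [← map_mul, ← map_mul]
      exact hcomm A _ ha (hconjK Y0 hy)
    calc (q η0)⁻¹ * (q V * q Y0 * q V) * q η0
        = (q V * q A * q V)⁻¹ * ((q A)⁻¹ * (q V * q Y0 * q V) * q A) * (q V * q A * q V) := by
          simp only [η0, map_mul]; group
      _ = (q V * q A * q V)⁻¹ * (q V * q Y0 * q V) * (q V * q A * q V) := by
          rw [h.inv_left.eq, inv_mul_cancel_right]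
      _ = (q V)⁻¹ * (q A)⁻¹ * q Y0 * (q V * q V) * q A * q V := by group
      _ = q V * q K0 * q V := by rw [hVV, hVinv, hK0]; group
  have hZ : q Z0 = (q V * q Y0 * q V) * (q Y0)⁻¹ := by rw [hVY, mul_inv_cancel_right]
  have hWq : q W = q V * q Kb * q V * (q Kb)⁻¹ := by
    have e : W⁻¹ = W := by
      apply Subtype.ext
      rw [Subgroup.coe_inv, hWw]
      exact inv_eq_of_mul_eq_one_right st.ww
    rw [← e]
    simp only [W, map_mul, map_inv]
    group
  have hη0W : q (η0 * Z0 * η0⁻¹) = q W := by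
    rw [map_mul, map_mul, map_inv, hZ, hWq]
    calc q η0 * (q V * q Y0 * q V * (q Y0)⁻¹) * (q η0)⁻¹
        = (q η0 * (q V * q Y0 * q V) * (q η0)⁻¹) * (q η0 * q Y0 * (q η0)⁻¹)⁻¹ := by group
      _ = _ := by rw [hEY, hEY']
  obtain ⟨o, ho, hoconj⟩ := core_conj_involution (u := u)
    (a := ((η0 * Z0 * η0⁻¹ : ↥(cen u)) : G)) (b := w) (by
      rw [← Subgroup.coe_mul, show η0 * Z0 * η0⁻¹ * (η0 * Z0 * η0⁻¹) = η0 * (Z0 * Z0) * η0⁻¹ by
        group, show Z0 * Z0 = 1 from Subtype.ext hJ.sq, mul_one, mul_inv_cancel]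
      rfl) st.ww (by
      have h := qc_eq_iff.1 hη0W
      rwa [hWw] at h)
  let O : ↥(cen u) := ⟨o, core_le u ho⟩
  have hqO : q O = 1 := by
    rw [← map_one q]
    exact qc_eq_iff.2 (by simpa [O] using (core u).inv_mem ho)
  let η : ↥(cen u) := O * η0
  have hηz : (η : G) * z * (η : G)⁻¹ = w := by
    rw [← hoconj]
    show (o * (η0 : G)) * z * (o * (η0 : G))⁻¹ = o * ((η0 : G) * z * (η0 : G)⁻¹) * o⁻¹
    group
  set z0 := (η : G)⁻¹ * z * (η : G) with hz0
  have hz0N : z0 ∈ normalizer (J : Set G) := by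
    rw [← cj_eq_iff, hz0, cj_mul, cj_mul, hzN _ (hηz ▸ hJ.conj (η : G)), ← cj_mul, inv_mul_cancel,
      cj_one]
  have hz0z : z0 ∈ cen z := by
    rw [mem_cen]
    have h := hwz.eq
    rw [← hηz] at h
    calc z0 * z = (η : G)⁻¹ * (z * ((η : G) * z * (η : G)⁻¹)) * (η : G) := by rw [hz0]; group
      _ = (η : G)⁻¹ * ((η : G) * z * (η : G)⁻¹ * z) * (η : G) := by rw [h]
      _ = z * z0 := by rw [hz0]; group
  have hqz0 : q (η⁻¹ * Z0 * η) = q V * q K0 * q V * (q K0)⁻¹ := by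
    rw [map_mul, map_mul, map_inv, map_mul, hqO, one_mul, hZ]
    calc (q η0)⁻¹ * (q V * q Y0 * q V * (q Y0)⁻¹) * q η0
        = ((q η0)⁻¹ * (q V * q Y0 * q V) * q η0) * ((q η0)⁻¹ * q Y0 * q η0)⁻¹ := by group
      _ = _ := by rw [hEY2, hEY'2]
  -- the lift of `k0`
  set Qg := cj a⁻¹ (R ⊓ K) with hQg
  have hQK : ∀ p ∈ Qg, p ∈ K := by
    rintro _ ⟨p, hp, rfl⟩
    exact K.mul_mem (K.mul_mem (K.inv_mem ha) hp.2) (K.inv_mem (K.inv_mem ha))
  have hQu : Qg ≤ cen u := fun p hp => hK.le (hQK p hp)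
  have hyQg : y ∈ Qg := by
    rw [hQg, mem_cj, inv_inv, hak]
    exact hk
  have hk0Qg : k0 ∈ Qg := by
    have h := cj_mem (g := a⁻¹) (show y ∈ R ⊓ K from ⟨hyR, hy⟩)
    rwa [inv_inv] at h
  set Qb := (Qg.subgroupOf (cen u)).map q with hQb
  set Qb' := Qb.map (MulAut.conj (q V)).toMonoidHom with hQb'
  have hQP : IsPGroup 2 Qb := ((hqR.isP.map _).comap_subtype).map q
  have hQQ : ∀ s ∈ Qb, ∀ t ∈ Qb', Commute s t := by
    rintro _ ⟨p, hp, rfl⟩ _ ⟨_, ⟨p', hp', rfl⟩, rfl⟩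
    show Commute (q p) (q V * q p' * (q V)⁻¹)
    rw [hVinv, ← map_mul, ← map_mul]
    exact hcomm p _ (hQK _ hp) (hconjK p' (hQK _ hp'))
  have hQle : Qb ≤ normalizer (Qb' : Set _) := by
    intro s hs
    rw [mem_normalizer_iff]
    intro t
    constructor
    · intro ht
      rwa [(hQQ s hs t ht).eq, mul_inv_cancel_right]
    · intro ht
      have h : s⁻¹ * (s * t * s⁻¹) * s = s * t * s⁻¹ := by
        rw [mul_assoc, ← (hQQ s hs _ ht).eq, inv_mul_cancel_left]
      rw [show s⁻¹ * (s * t * s⁻¹) * s = t by group] at h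
      exact h ▸ ht
  have hVle : zpowers (q V) ≤ normalizer ((Qb ⊔ Qb' : Subgroup _) : Set _) := by
    rw [zpowers_le]
    refine Components.mem_normalizer_of_map_conj_eq ?_
    rw [Subgroup.map_sup, sup_comm, hQb']
    congr 1
    rw [Subgroup.map_map]
    ext s
    constructor
    · rintro ⟨t, ht, rfl⟩
      show q V * (q V * t * (q V)⁻¹) * (q V)⁻¹ ∈ Qb
      rwa [show q V * (q V * t * (q V)⁻¹) * (q V)⁻¹ = q V * q V * t * (q V * q V)⁻¹ by group, hVV,
        one_mul, inv_one, mul_one]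
    · intro hs
      refine ⟨s, hs, ?_⟩
      show q V * (q V * s * (q V)⁻¹) * (q V)⁻¹ = s
      rw [show q V * (q V * s * (q V)⁻¹) * (q V)⁻¹ = q V * q V * s * (q V * q V)⁻¹ by group, hVV]
      group
  have hH : IsPGroup 2 (zpowers (q V) ⊔ (Qb ⊔ Qb') : Subgroup _) :=
    (isP_zpowers (k := 1) (by rw [pow_one, pow_two, hVV])).to_sup_of_normal_right'
      (hQP.to_sup_of_normal_right' (hQP.map _) hQle) hVle
  set H := zpowers (q V) ⊔ (Qb ⊔ Qb') with hHdef
  set T := closure ({y, v} : Set G) with hTdef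
  have hTR : T ≤ R := (closure_le _).2 (by rintro t (rfl | rfl) <;> assumption)
  have hTH : T ≤ (H.comap q).map (cen u).subtype := by
    refine (closure_le _).2 ?_
    rintro t (rfl | rfl)
    · exact ⟨Y0, (le_sup_right : _ ≤ H) ((le_sup_left : Qb ≤ Qb ⊔ Qb') ⟨Y0, hyQg, rfl⟩), rfl⟩
    · exact ⟨V, (le_sup_left : _ ≤ H) (mem_zpowers _), rfl⟩
  obtain ⟨R0, hR0, hR0u, hTR0, hlift⟩ := lift_two (hR.isP.to_le hTR) (hTR.trans hR.le) hH (by
    intro t ht
    obtain ⟨t', ht', e⟩ := hTH ht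
    rw [show (⟨t, (hTR.trans hR.le) ht⟩ : ↥(cen u)) = t' from Subtype.ext e.symm]
    exact ht')
  obtain ⟨kh, hkhu, hkhR, hqk⟩ := hlift (q K0)
    ((le_sup_right : _ ≤ H) ((le_sup_left : Qb ≤ Qb ⊔ Qb') ⟨K0, hk0Qg, rfl⟩))
  have hyR0 : y ∈ R0 := hTR0 (subset_closure (Or.inl rfl))
  have hvR0 : v ∈ R0 := hTR0 (subset_closure (Or.inr rfl))
  have huR0 : u ∈ R0 := hyy ▸ R0.mul_mem hyR0 hyR0
  have hkhK : kh ∈ K := by
    obtain ⟨n, hn⟩ := hR0 ⟨kh, hkhR⟩
    exact hK.two_mem hk0K hkhu n (congrArg Subtype.val hn) (qc_eq_iff.1 hqk.symm)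
  have hk0k0 : k0 * k0 = u := by
    have hau : Commute a u := mem_cen.1 (hK.le ha)
    calc k0 * k0 = a⁻¹ * (y * y) * a := by rw [hk0]; group
      _ = u := by rw [hyy, mul_assoc, ← hau.eq, inv_mul_cancel_left]
  have hk0y : k0 * y = y * k0 * u := by
    have hau : Commute a u := mem_cen.1 (hK.le ha)
    have e : y * k0 = k0 * y * u := by
      calc y * k0 = a⁻¹ * (k * y) * a := by rw [← hak, hk0]; group
        _ = a⁻¹ * (y * k) * (u * a) := by rw [hky]; group
        _ = (a⁻¹ * y * a) * (a⁻¹ * k * a) * u := by rw [← hau.eq]; group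
        _ = k0 * y * u := by
          rw [← hk0, ← hak, show a⁻¹ * (a * y * a⁻¹) * a = y by group]
    rw [e, mul_assoc (k0 * y), hK.sq, mul_one]
  have hkh2 : kh * kh = u :=
    qc_exact hR0 (a := ⟨kh, hkhu⟩ * ⟨kh, hkhu⟩) (b := ⟨u, mem_cen.2 rfl⟩)
      (R0.mul_mem hkhR hkhR) huR0 (by
        rw [map_mul, hqk, ← map_mul]
        exact congrArg q (Subtype.ext hk0k0))
  have hkhy : kh * y = y * kh * u :=
    qc_exact hR0 (a := ⟨kh, hkhu⟩ * Y0) (b := Y0 * ⟨kh, hkhu⟩ * ⟨u, mem_cen.2 rfl⟩)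
      (R0.mul_mem hkhR hyR0) (R0.mul_mem (R0.mul_mem hyR0 hkhR) huR0) (by
        rw [map_mul, map_mul, map_mul, hqk, ← map_mul, ← map_mul, ← map_mul]
        exact congrArg q (Subtype.ext hk0y))
  have st2 := step2 hK hzu hJ.sq hJ.ne hy hyy hyz hcc huc' hcc1 hR0 hyR0 hvR0 hkhR hkhK hkh2 hkhy
  obtain ⟨w2, hw2⟩ : ∃ w2, w2 = kh * (v * kh * v)⁻¹ := ⟨_, rfl⟩
  obtain ⟨x2, hx2⟩ : ∃ x2, x2 = y * u * w2 * v := ⟨_, rfl⟩
  rw [← hv, ← hw2, ← hx2] at st2
  have hx2N : x2 ∈ normalizer (J : Set G) := by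
    rcases hwhich _ st2.intr x2 st2.xL st2.xx st2.xy R0 hR0 st2.xR hyR0 with e | e
    · exact Subgroup.le_normalizer (e ▸ st2.xL)
    · exact hJ.le_normalizer hJ1 (e ▸ st2.xL)
  have hvN : v ∈ normalizer (J : Set G) :=
    mul_mem (Subgroup.le_normalizer hc.2) (hJ.le_normalizer hJ1 (cj_mem hc.2))
  have hw2e : w2 = y * x2 * v := by
    have e : (y * u)⁻¹ = y := inv_eq_of_mul_eq_one_left (by rw [← mul_assoc, hyy, hK.sq])
    calc w2 = (y * u)⁻¹ * x2 * v⁻¹ := by rw [hx2]; group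
      _ = y * x2 * v := by rw [e, hvinv]
  have hw2N : w2 ∉ normalizer (J : Set G) := by
    intro h
    apply hmove
    rw [cj_eq_iff, show y = w2 * v⁻¹ * x2⁻¹ by rw [hw2e]; group]
    exact mul_mem (mul_mem h (inv_mem hvN)) (inv_mem hx2N)
  -- the odd element between `z0` and `w2`
  let Kh : ↥(cen u) := ⟨kh, hkhu⟩
  let W2 : ↥(cen u) := Kh * (V * Kh * V)⁻¹
  have hW2w : (W2 : G) = w2 := hw2.symm
  have hqW2 : q W2 = q (η⁻¹ * Z0 * η) := by
    have e : W2⁻¹ = W2 := by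
      apply Subtype.ext
      rw [Subgroup.coe_inv, hW2w]
      exact inv_eq_of_mul_eq_one_right st2.ww
    have hKh : q Kh = q K0 := hqk
    rw [hqz0, ← hKh, ← e]
    simp only [W2, map_mul, map_inv]
    group
  set g := z0⁻¹ * w2 with hg
  have hgcore : g ∈ core u := by
    have h := qc_eq_iff.1 hqW2.symm
    rwa [hW2w] at h
  have hgu : Commute g u := mem_cen.1 (core_le u hgcore)
  have hgcen : g ∈ cen z := mul_mem (inv_mem hz0z) (mem_cen.2 st2.wz.eq)
  have hperm : ∀ (M : Subgroup G), Intr z M → ∀ e ∈ M, u * e * u⁻¹ = e * z →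
      cj g M = J ∨ cj g M = cj y J := by
    intro M hM e he hue
    refine hpair _ (hM.conj_cen hgcen) _ (cj_mem he) ?_
    calc u * (g * e * g⁻¹) * u⁻¹ = (u * g) * e * (u * g)⁻¹ := by group
      _ = g * (u * e * u⁻¹) * g⁻¹ := by rw [← hgu.eq]; group
      _ = g * e * (z * g⁻¹) := by rw [hue]; group
      _ = g * e * g⁻¹ * z := by
          rw [← (show Commute g⁻¹ z from Commute.inv_left (mem_cen.1 hgcen)).eq]; group
  have hgfix : g ∈ normalizer (J : Set G) := by
    rcases hperm J hJ c hc.2 huc with e | e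
    · exact cj_eq_iff.1 e
    have h1 : cj g (cj y J) = J := by
      rcases hperm _ hJ1 (y * c * y⁻¹) (cj_mem hc.2) (by
        calc u * (y * c * y⁻¹) * u⁻¹ = (u * y) * c * (u * y)⁻¹ := by group
          _ = y * (u * c * u⁻¹) * y⁻¹ := by rw [huy.eq]; group
          _ = y * c * y⁻¹ * (y * z * y⁻¹) := by rw [huc]; group
          _ = y * c * y⁻¹ * z := by rw [hyz.eq, mul_inv_cancel_right]) with e' | e'
      · exact e'
      · exact absurd (cj_inj (e'.trans e.symm)) hmove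
    have hg2 : g * g ∈ normalizer (J : Set G) := by
      rw [← cj_eq_iff, cj_mul, e, h1]
    obtain ⟨m, hm⟩ := (odd_core u).of_dvd_nat (Subgroup.orderOf_dvd_natCard (core u) hgcore)
    have : g = (g * g) ^ (m + 1) := by
      rw [← pow_two, ← pow_mul, show 2 * (m + 1) = (2 * m + 1) + 1 by omega, pow_succ, ← hm,
        pow_orderOf_eq_one, one_mul]
    rw [this]
    exact pow_mem hg2 _
  apply hw2N
  rw [show w2 = z0 * g by rw [hg, mul_inv_cancel_left]]
  exact mul_mem hz0N hgfix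

/-- Part (i). -/
theorem normalizes (hK : Intr u K) (hJ : Intr z J) : ∀ (k : ℕ) (y : G), y ∈ K → y ^ 2 ^ k = 1 →
    y * y ≠ 1 → y * z = z * y → y ∈ normalizer (J : Set G) := by
  intro k
  induction k with
  | zero =>
    intro y _ hk h1
    simp only [pow_zero, pow_one] at hk
    exact absurd (by rw [hk, one_mul]) h1
  | succ k ih =>
    intro y hy hk h1 hyz
    rcases eq_or_ne z u with e | hzu
    · subst e
      exact hJ.le_normalizer hK hy
    by_contra hcon
    have hmove : cj y J ≠ J := fun e => hcon (cj_eq_iff.1 e)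
    by_cases hyy : y * y = u
    · by_cases hu : cj u J = J
      · have hycen : y ∈ cen z := mem_cen.2 hyz
        obtain ⟨P, hP, hle⟩ := exists_syl (z := z) (isP_zpowers hk) (zpowers_le.2 hycen)
        have hyP : y ∈ P := hle (mem_zpowers y)
        obtain ⟨c, hc, hcc, huc⟩ :=
          exists_inverted hK hJ hy hyz hzu hmove hyy (cj_eq_iff.1 hu) hP hyP
        have hc1P : y * c * y⁻¹ ∈ P := P.mul_mem (P.mul_mem hyP hc.1) (P.inv_mem hyP)
        have hJ1 := hJ.conj_cen hycen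
        have hcc1 : Commute c (y * c * y⁻¹) :=
          hJ.commute hJ1 hmove.symm hP.isP hc.2 hc.1 (cj_mem hc.2) hc1P
        obtain ⟨R, hR, hRle⟩ := exists_syl (z := u) (hP.isP.to_le (inf_le_left : P ⊓ cen u ≤ P))
          inf_le_right
        have hucen : u ∈ cen z := hyy ▸ mul_mem hycen hycen
        have huy : Commute u y := hyy ▸ (Commute.refl y).mul_left (Commute.refl y)
        have huinv : u⁻¹ = u := inv_eq_of_mul_eq_one_right hK.sq
        have hvR : c * (y * c * y⁻¹) ∈ R := hRle ⟨P.mul_mem hc.1 hc1P, mem_cen.2 (by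
          have hzy : y * z * y⁻¹ = z := by rw [hyz, mul_inv_cancel_right]
          have hc1z : Commute (y * c * y⁻¹) z := mem_cen.1 (hJ1.le (cj_mem hc.2))
          have h : u * (c * (y * c * y⁻¹)) * u⁻¹ = c * (y * c * y⁻¹) := by
            calc u * (c * (y * c * y⁻¹)) * u⁻¹
                = (u * c * u⁻¹) * ((u * y) * c * (u * y)⁻¹) := by group
              _ = (c * z) * ((y * u) * c * (y * u)⁻¹) := by
                  rw [huy.eq, show u * c * u⁻¹ = c * z by rw [huinv, huc]]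
              _ = (c * z) * (y * (u * c * u⁻¹) * y⁻¹) := by group
              _ = c * (z * (y * c * y⁻¹)) * (y * z * y⁻¹) := by
                  rw [show u * c * u⁻¹ = c * z by rw [huinv, huc]]; group
              _ = c * (y * c * y⁻¹) * (z * z) := by rw [← hc1z.eq, hzy]; group
              _ = c * (y * c * y⁻¹) := by rw [hJ.sq, mul_one]
          exact (mul_inv_eq_iff_eq_mul.1 h).symm)⟩
        have hyR : y ∈ R := hRle ⟨hyP, hK.le hy⟩
        obtain ⟨k', hk', hkk, hky⟩ := ((hK.qgrp hR).1).partner (a := y) ⟨hyR, hy⟩ hyy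
        have st := step2 hK hzu hJ.sq hJ.ne hy hyy hyz hcc huc hcc1 hR.isP hyR hvR hk'.1 hk'.2 hkk hky
        exact final_false hK st.intr hy hyy hyz hzu
          (moved_of_data st.intr hK.ne hK.sq hzu (mem_cen.1 hucen) st.xL st.xy)
          st.xL st.xx st.xy st.xu hR.isP st.xR hyR
      · exact four_moved_false hK hJ hy hyz hzu hmove hyy hu
    · refine big_false hK hJ hy hyz hzu hmove hk h1 hyy (ih (y * y) (K.mul_mem hy hy) ?_ ?_ ?_)
      · rw [← pow_two, ← pow_mul, ← pow_succ']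
        exact hk
      · intro e
        rcases hK.uniq _ (K.mul_mem hy hy) e with e' | e'
        · exact h1 e'
        · exact hyy e'
      · exact ((show Commute y z from hyz).mul_left hyz).eq

end Cfsg.Agent.H13.Intrinsic
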