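import Cfsg.Agent.H64.UniqueInvolution
import Cfsg.Agent.H48.GTwoFusion.Transfer

/-!
Two-groups with a unique involution `z`, handled as subgroups of an ambient group.
-/

set_option autoImplicit false
set_option linter.style.haveILetI false

namespace Cfsg.Agent.H13.Intrinsic

open Subgroup

variable {G : Type*} [Group G]

/-- `S` is a nonabelian 2-group whose only involution is `z`. -/
structure QGrp (z : G) (S : Subgroup G) : Prop where
  isP : IsPGroup 2 S
  mem : z ∈ S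
  sq : z * z = 1
  ne : z ≠ 1
  uniq : ∀ t ∈ S, t * t = 1 → t = 1 ∨ t = z
  nc : ∃ a ∈ S, ∃ b ∈ S, a * b ≠ b * a

namespace QGrp

variable {z : G} {S : Subgroup G} (hS : QGrp z S)
include hS

theorem comm_z {a : G} (ha : a ∈ S) : a * z = z * a := by
  have h : (a * z * a⁻¹) * (a * z * a⁻¹) = 1 := by
    calc (a * z * a⁻¹) * (a * z * a⁻¹) = a * (z * z) * a⁻¹ := by group
      _ = 1 := by rw [hS.sq]; group
  rcases hS.uniq _ (S.mul_mem (S.mul_mem ha hS.mem) (S.inv_mem ha)) h with h1 | h1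
  · exact absurd (mul_inv_eq_one.1 h1) (fun e => hS.ne (mul_left_cancel (e.trans (mul_one a).symm)))
  · exact (mul_inv_eq_iff_eq_mul.1 h1)

theorem zinv : z⁻¹ = z := inv_eq_of_mul_eq_one_right hS.sq

theorem inv_four {a : G} (h : a * a = z) : a⁻¹ = a * z := by
  apply inv_eq_of_mul_eq_one_right
  rw [← mul_assoc, h, hS.sq]

theorem four_ne {a : G} (h : a * a = z) : a ≠ 1 ∧ a ≠ z := by
  constructor
  · rintro rfl
    exact hS.ne (by rw [← h, mul_one])
  · rintro rfl
    exact hS.ne (by rw [← h, hS.sq])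

theorem exists_pow_four {a : G} (ha : a ∈ S) (h1 : a ≠ 1) (hz : a ≠ z) :
    ∃ n : ℕ, a ^ n * a ^ n = z := by
  obtain ⟨k, hk⟩ := hS.isP ⟨a, ha⟩
  have hk' : a ^ 2 ^ k = 1 := congrArg Subtype.val hk
  clear hk
  induction k generalizing a with
  | zero => exact absurd (by simpa using hk') h1
  | succ k ih =>
    have hsq : a ^ 2 = a * a := pow_two a
    by_cases e1 : a * a = 1
    · rcases hS.uniq a ha e1 with e | e
      · exact absurd e h1
      · exact absurd e hz
    by_cases e2 : a * a = z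
    · exact ⟨1, by rw [pow_one]; exact e2⟩
    obtain ⟨n, hn⟩ := ih (S.mul_mem ha ha) e1 e2 (by
      rw [← hsq, ← pow_mul, ← pow_succ']; exact hk')
    refine ⟨2 * n, ?_⟩
    rw [← hsq, ← pow_mul] at hn
    exact hn

theorem eq_or_eq_mul {a b : G} (ha : a ∈ S) (hb : b ∈ S) (haa : a * a = z) (hbb : b * b = z)
    (hab : a * b = b * a) : b = a ∨ b = a * z := by
  have h : (a⁻¹ * b) * (a⁻¹ * b) = 1 := by
    have hc : Commute a⁻¹ b := (Commute.inv_left hab)
    calc (a⁻¹ * b) * (a⁻¹ * b) = a⁻¹ * (b * a⁻¹) * b := by group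
      _ = a⁻¹ * (a⁻¹ * b) * b := by rw [hc.eq]
      _ = (a * a)⁻¹ * (b * b) := by group
      _ = 1 := by rw [haa, hbb, inv_mul_cancel]
  rcases hS.uniq _ (S.mul_mem (S.inv_mem ha) hb) h with e | e
  · exact Or.inl (inv_mul_eq_one.1 e).symm
  · exact Or.inr (inv_mul_eq_iff_eq_mul.1 e)

theorem gens [Finite G] :
    ∃ (k : ℕ) (A B : G), 2 ≤ k ∧ orderOf A = 2 ^ k ∧ A ∈ S ∧ B ∈ S ∧ B ∉ zpowers A ∧
      B * A * B⁻¹ = A⁻¹ ∧ B * B = z ∧ A ^ 2 ^ (k - 1) = z ∧
      ∀ q ∈ S, ∃ i : ℕ, q = A ^ i ∨ q = B * A ^ i := by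
  have hna : ¬ IsMulCommutative ↥S := by
    rintro ⟨⟨h⟩⟩
    obtain ⟨a, ha, b, hb, hab⟩ := hS.nc
    exact hab (congrArg Subtype.val (h ⟨a, ha⟩ ⟨b, hb⟩))
  have hu : ∃! x : ↥S, orderOf x = 2 := by
    refine ⟨⟨z, hS.mem⟩, ?_, fun x hx => ?_⟩
    · show orderOf _ = 2
      rw [orderOf_eq_prime_iff]
      refine ⟨Subtype.ext (by simpa [pow_two] using hS.sq), fun h => hS.ne (congrArg Subtype.val h)⟩
    · have hx' := orderOf_eq_prime_iff.1 hx
      rcases hS.uniq x x.2 (by simpa [pow_two] using congrArg Subtype.val hx'.1) with e | e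
      · exact absurd (Subtype.ext e) hx'.2
      · exact Subtype.ext e
  obtain ⟨k, a, b, hk, hoa, hb, hconj, hsq, hall⟩ := H64.exists_quaternion_gens hS.isP hna hu
  have hA : (a : G) ^ 2 ^ (k - 1) = z := by
    have hlt : 2 ^ (k - 1) < orderOf a := by
      rw [hoa]; exact Nat.pow_lt_pow_right (by norm_num) (by omega)
    have h2 : (a ^ 2 ^ (k - 1)) * (a ^ 2 ^ (k - 1)) = 1 := by
      rw [← pow_add, ← two_mul, ← pow_succ', show k - 1 + 1 = k from by omega, ← hoa,
        pow_orderOf_eq_one]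
    rcases hS.uniq _ (S.pow_mem a.2 _) (congrArg Subtype.val h2) with e | e
    · exact absurd (Subtype.ext e : a ^ 2 ^ (k - 1) = 1)
        (pow_ne_one_of_lt_orderOf (by positivity) hlt)
    · exact e
  refine ⟨k, a, b, hk, by rw [Subgroup.orderOf_coe]; exact hoa, a.2, b.2, ?_, ?_, ?_, hA,
    fun q hq => ?_⟩
  · intro h
    obtain ⟨i, hi⟩ := mem_zpowers_iff.1 h
    exact hb (mem_zpowers_iff.2 ⟨i, Subtype.ext hi⟩)
  · exact congrArg Subtype.val hconj
  · rw [← hA, ← pow_two]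
    exact congrArg Subtype.val hsq
  · obtain ⟨i, hi | hi⟩ := hall ⟨q, hq⟩
    · exact ⟨i, Or.inl (congrArg Subtype.val hi)⟩
    · exact ⟨i, Or.inr (congrArg Subtype.val hi)⟩

/-- Every element of order 4 is inverted by some element of order 4. -/
theorem partner [Finite G] {a : G} (ha : a ∈ S) (haa : a * a = z) :
    ∃ b ∈ S, b * b = z ∧ b * a = a * b * z := by
  obtain ⟨k, A, B, hk, hoA, hA, hB, -, hconj, hBB, hAz, hall⟩ := hS.gens
  obtain ⟨i, rfl | rfl⟩ := hall a ha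
  · refine ⟨B, hB, hBB, ?_⟩
    have h : B * A ^ i * B⁻¹ = (A ^ i)⁻¹ := by rw [← conj_pow, hconj, inv_pow]
    rw [mul_inv_eq_iff_eq_mul.1 h, hS.inv_four haa, mul_assoc, ← hS.comm_z hB, ← mul_assoc]
  · have hm : A ^ 2 ^ (k - 2) * A ^ 2 ^ (k - 2) = z := by
      rw [← pow_add, ← two_mul, ← pow_succ', show k - 2 + 1 = k - 1 from by omega, hAz]
    refine ⟨A ^ 2 ^ (k - 2), S.pow_mem hA _, hm, ?_⟩
    have h : B * A ^ 2 ^ (k - 2) * B⁻¹ = (A ^ 2 ^ (k - 2))⁻¹ := by
      rw [← conj_pow, hconj, inv_pow]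
    have h2 : B * A ^ 2 ^ (k - 2) = A ^ 2 ^ (k - 2) * z * B := by
      rw [mul_inv_eq_iff_eq_mul.1 h, hS.inv_four hm]
    set c := A ^ 2 ^ (k - 2) with hc
    have hcS : c ∈ S := S.pow_mem hA _
    have hcA : c * A ^ i = A ^ i * c := by rw [hc]; exact (Commute.pow_pow_self A _ _).eq
    have hcB : c * B = B * c * z := by
      rw [h2, mul_assoc (c * z) B z, hS.comm_z hB, ← mul_assoc (c * z) z B, mul_assoc c z z,
        hS.sq, mul_one]
    rw [← mul_assoc, hcB, mul_assoc (B * c) z (A ^ i), ← hS.comm_z (S.pow_mem hA i),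
      mul_assoc B c (A ^ i * z), ← mul_assoc c (A ^ i) z, hcA]
    group

theorem exists_four [Finite G] : ∃ a ∈ S, a * a = z := by
  obtain ⟨k, A, B, -, -, -, hB, -, -, hBB, -, -⟩ := hS.gens
  exact ⟨B, hB, hBB⟩

theorem exists_pair [Finite G] :
    ∃ a ∈ S, ∃ b ∈ S, a * a = z ∧ b * b = z ∧ b * a = a * b * z := by
  obtain ⟨a, ha, haa⟩ := hS.exists_four
  obtain ⟨b, hb, hbb, hba⟩ := hS.partner ha haa
  exact ⟨a, ha, b, hb, haa, hbb, hba⟩

theorem central [Finite G] {a : G} (ha : a ∈ S) (hc : ∀ b ∈ S, b * a = a * b) : a = 1 ∨ a = z := by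
  by_contra hne
  push Not at hne
  obtain ⟨n, hn⟩ := hS.exists_pow_four ha hne.1 hne.2
  obtain ⟨b, hb, -, hba⟩ := hS.partner (S.pow_mem ha n) hn
  have h : b * a ^ n = a ^ n * b := (Commute.pow_right (hc b hb) n).eq
  rw [h] at hba
  exact hS.ne (mul_eq_left.1 hba.symm)

/-- An involution acting on `S` fixes or inverts each element of order 4 that it does not move to
another cyclic subgroup; if it inverts none, it fixes all of them. -/
theorem fixed_of_no_inverted [Finite G] {u : G} (hu : u * u = 1)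
    (hn : ∀ a ∈ S, u * a * u ∈ S)
    (h : ∀ a ∈ S, a * a = z → u * a * u ≠ a * z) {a : G} (ha : a ∈ S) (haa : a * a = z) :
    u * a * u = a := by
  set e := a⁻¹ * (u * a * u) with he
  have heS : e ∈ S := S.mul_mem (S.inv_mem ha) (hn a ha)
  have huinv : u⁻¹ = u := inv_eq_of_mul_eq_one_right hu
  have hinv : u * e * u = e⁻¹ := by
    have h1 : u⁻¹ * a * u⁻¹ = u * a * u := by rw [huinv]
    calc u * e * u = u * a⁻¹ * u * a * (u * u) := by rw [he]; group
      _ = (a⁻¹ * (u⁻¹ * a * u⁻¹))⁻¹ := by rw [hu]; group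
      _ = e⁻¹ := by rw [h1]
  by_cases e1 : e = 1
  · exact (inv_mul_eq_one.1 e1).symm
  by_cases ez : e = z
  · exact absurd (inv_mul_eq_iff_eq_mul.1 ez) (h a ha haa)
  obtain ⟨n, hnn⟩ := hS.exists_pow_four heS e1 ez
  refine absurd ?_ (h _ (S.pow_mem heS n) hnn)
  have hcj : u * e ^ n * u = (u * e * u) ^ n := by
    have := conj_pow (a := u) (b := e) (i := n)
    rw [huinv] at this
    exact this.symm
  rw [hcj, hinv, inv_pow, hS.inv_four hnn]

theorem exists_fix_or_inv [Finite G] {u : G} (hu : u * u = 1) (hn : ∀ a ∈ S, u * a * u ∈ S) :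
    ∃ a ∈ S, a * a = z ∧ (u * a * u = a ∨ u * a * u = a * z) := by
  by_cases h : ∀ a ∈ S, a * a = z → u * a * u ≠ a * z
  · obtain ⟨a, ha, haa⟩ := hS.exists_four
    exact ⟨a, ha, haa, Or.inl (hS.fixed_of_no_inverted hu hn h ha haa)⟩
  · push Not at h
    obtain ⟨a, ha, haa, h⟩ := h
    exact ⟨a, ha, haa, Or.inr h⟩

end QGrp

/-- In a perfect group with a unique involution, elements of order 4 are conjugate. -/
theorem four_conj [Finite G] {K : Subgroup G} (hK : ⁅K, K⁆ = K) {u : G} (hu : u * u = 1)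
    (huK : u ∈ K) (hu1 : u ≠ 1) (huniq : ∀ t ∈ K, t * t = 1 → t = 1 ∨ t = u)
    {P : Subgroup G} (hP : QGrp u P) (hPK : P ≤ K) (hidx : ¬ 2 ∣ P.relIndex K)
    {a b : G} (ha : a ∈ K) (hb : b ∈ K) (haa : a * a = u) (hbb : b * b = u) :
    ∃ g ∈ K, g * a * g⁻¹ = b := by
  haveI : Fact (Nat.Prime 2) := ⟨Nat.prime_two⟩
  haveI : Group.IsPerfect ↥K := Subgroup.isPerfect_iff.mpr hK
  obtain ⟨k, A, B, hk, hoA, hA, hB, hBA, hconj, hBB, hAz, hall⟩ := hP.gens
  set c := A ^ 2 ^ (k - 2) with hc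
  have hcc : c * c = u := by
    rw [hc, ← pow_add, ← two_mul, ← pow_succ', show k - 2 + 1 = k - 1 from by omega, hAz]
  have hcK : c ∈ K := K.pow_mem (hPK hA) _
  set uK : ↥K := ⟨u, huK⟩ with huKdef
  have hcen : ∀ x : ↥K, x * uK = uK * x := by
    intro x
    apply Subtype.ext
    show (x : G) * u = u * x
    have h : ((x : G) * u * (x : G)⁻¹) * ((x : G) * u * (x : G)⁻¹) = 1 := by
      calc ((x : G) * u * (x : G)⁻¹) * ((x : G) * u * (x : G)⁻¹)
          = (x : G) * (u * u) * (x : G)⁻¹ := by group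
        _ = 1 := by rw [hu]; group
    rcases huniq _ (K.mul_mem (K.mul_mem x.2 huK) (K.inv_mem x.2)) h with e | e
    · exact absurd (mul_inv_eq_one.1 e) (fun q => hu1 (mul_left_cancel (q.trans (mul_one _).symm)))
    · exact mul_inv_eq_iff_eq_mul.1 e
  haveI : (zpowers uK).Normal := ⟨fun n hn g => by
    obtain ⟨i, rfl⟩ := mem_zpowers_iff.1 hn
    have : g * uK ^ i * g⁻¹ = uK ^ i := by
      rw [(Commute.zpow_right (hcen g) i).eq, mul_inv_cancel_right]
    rw [this]; exact hn⟩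
  let π := QuotientGroup.mk' (zpowers uK)
  -- everything of order 4 is conjugate to `c` modulo the centre
  have key : ∀ x : G, ∀ hx : x ∈ K, x * x = u →
      ∃ g ∈ K, g * x * g⁻¹ = c ∨ g * x * g⁻¹ = c * u := by
    intro x hx hxx
    let S0 : Sylow 2 ↥K := (hP.isP.comap_subtype (K := K)).toSylow hidx
    let S1 : Sylow 2 (↥K ⧸ zpowers uK) := S0.mapSurjective (f := π) (QuotientGroup.mk'_surjective _)
    let AK : ↥K := ⟨A, hPK hA⟩
    have hQP : zpowers (π AK) ≤ (S1 : Subgroup _) := by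
      rw [zpowers_le]
      exact ⟨AK, (show (A : G) ∈ P from hA), rfl⟩
    have hne : orderOf (π ⟨x, hx⟩) = 2 := by
      rw [orderOf_eq_prime_iff]
      refine ⟨?_, ?_⟩
      · rw [← map_pow]
        exact (QuotientGroup.eq_one_iff _).2 (mem_zpowers_iff.2
          ⟨1, Subtype.ext (by simp [huKdef, pow_two, hxx])⟩)
      · intro h
        obtain ⟨i, hi⟩ := mem_zpowers_iff.1 ((QuotientGroup.eq_one_iff (N := zpowers uK) _).1 h)
        have hi' : u ^ i = x := by simpa [huKdef] using congrArg Subtype.val hi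
        apply hu1
        rw [← hxx, ← hi', ← (Commute.refl u).mul_zpow, hu, one_zpow]
    have hrel : (zpowers (π AK)).relIndex (S1 : Subgroup _) = 2 := by
      have hcov : ∀ q ∈ (S1 : Subgroup _), q ∈ zpowers (π AK) ∨
          (π ⟨B, hPK hB⟩)⁻¹ * q ∈ zpowers (π AK) := by
        rintro q ⟨q0, hq0, rfl⟩
        obtain ⟨i, hi | hi⟩ := hall (q0 : G) hq0
        · exact Or.inl (mem_zpowers_iff.2 ⟨i, by
            rw [zpow_natCast, ← map_pow]; exact congrArg π (Subtype.ext hi.symm)⟩)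
        · exact Or.inr (mem_zpowers_iff.2 ⟨i, by
            rw [zpow_natCast, ← map_pow, ← map_inv, ← map_mul]
            exact congrArg π (Subtype.ext (by simp [AK, hi]))⟩)
      have hB' : π ⟨B, hPK hB⟩ ∈ (S1 : Subgroup _) := ⟨_, (show (B : G) ∈ P from hB), rfl⟩
      have hBn : π ⟨B, hPK hB⟩ ∉ zpowers (π AK) := by
        intro h
        obtain ⟨i, hi⟩ := mem_zpowers_iff.1 h
        rw [← map_zpow] at hi
        obtain ⟨j, hj⟩ := mem_zpowers_iff.1
          ((QuotientGroup.eq_iff_div_mem (N := zpowers uK)).1 hi)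
        apply hBA
        have hj' : u ^ j = A ^ i / B := by simpa [huKdef, AK] using congrArg Subtype.val hj
        have : B = (u ^ j)⁻¹ * A ^ i := by rw [hj', inv_div, div_mul_cancel]
        rw [this]
        refine mul_mem (inv_mem (zpow_mem ?_ _)) (zpow_mem (mem_zpowers A) _)
        rw [← hAz]; exact pow_mem (mem_zpowers A) _
      rw [Subgroup.relIndex, Subgroup.index_eq_two_iff']
      refine ⟨⟨_, hB'⟩, fun b => ?_⟩
      simp only [Subgroup.mem_subgroupOf, Subgroup.coe_mul]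
      have hBsq : π ⟨B, hPK hB⟩ * π ⟨B, hPK hB⟩ = 1 := by
        rw [← map_mul]
        exact (QuotientGroup.eq_one_iff _).2 (mem_zpowers_iff.2
          ⟨1, Subtype.ext (by simp [huKdef, hBB])⟩)
      rcases hcov _ b.2 with h | h
      · exact Or.inr ⟨h, fun h' => hBn ((Subgroup.mul_mem_cancel_right _ h).1 h')⟩
      · rw [inv_eq_of_mul_eq_one_right hBsq] at h
        exact Or.inl ⟨h, fun h' => hBn ((Subgroup.mul_mem_cancel_right _ h').1 h)⟩
    obtain ⟨g, hg, -⟩ := H48.GTwoFusion.transfer_extremal (fun N hN hN2 => by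
        haveI := hN
        have hcomm : IsMulCommutative ((↥K ⧸ zpowers uK) ⧸ N) := by
          haveI : IsCyclic ((↥K ⧸ zpowers uK) ⧸ N) :=
            isCyclic_of_prime_card (p := 2) (by rw [← Subgroup.index_eq_card]; exact hN2)
          exact ⟨⟨fun a b => IsCyclic.commGroup.mul_comm a b⟩⟩
        have hle : _root_.commutator (↥K ⧸ zpowers uK) ≤ N := by
          rw [← Subgroup.Normal.quotient_commutative_iff_commutator_le]
          exact hcomm
        have hper : _root_.commutator (↥K ⧸ zpowers uK) = ⊤ := by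
          rw [_root_.commutator_def, ← Subgroup.map_top_of_surjective π
            (QuotientGroup.mk'_surjective _), ← Subgroup.map_commutator]
          congr 1
          exact Group.IsPerfect.commutator_eq_top
        rw [hper, top_le_iff] at hle
        rw [hle, Subgroup.index_top] at hN2
        omega)
      S1 (zpowers (π AK)) hQP hrel (π ⟨x, hx⟩) hne ⊥ IsPGroup.of_bot (by simp)
    obtain ⟨g0, rfl⟩ := QuotientGroup.mk'_surjective _ g
    obtain ⟨i, hi⟩ := mem_zpowers_iff.1 hg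
    refine ⟨g0, g0.2, ?_⟩
    set x' : ↥K := g0 * ⟨x, hx⟩ * g0⁻¹ with hx'
    have hxi : π (AK ^ i) = π x' := by rw [map_zpow, hi, hx', map_mul, map_mul, map_inv]
    obtain ⟨j, hj⟩ := mem_zpowers_iff.1 ((QuotientGroup.eq (s := zpowers uK)).1 hxi)
    have hj' : A ^ i * u ^ j = (g0 : G) * x * (g0 : G)⁻¹ := by
      have : AK ^ i * uK ^ j = x' := by rw [hj]; group
      simpa [AK, huKdef, hx'] using congrArg Subtype.val this
    have hmemP : (g0 : G) * x * (g0 : G)⁻¹ ∈ P := by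
      rw [← hj']; exact P.mul_mem (P.zpow_mem hA _) (P.zpow_mem hP.mem _)
    have hsq : ((g0 : G) * x * (g0 : G)⁻¹) * ((g0 : G) * x * (g0 : G)⁻¹) = u := by
      have hcx : (g0 : G) * u = u * g0 := congrArg Subtype.val (hcen g0)
      calc ((g0 : G) * x * (g0 : G)⁻¹) * ((g0 : G) * x * (g0 : G)⁻¹)
          = (g0 : G) * (x * x) * (g0 : G)⁻¹ := by group
        _ = u := by rw [hxx, hcx, mul_inv_cancel_right]
    have hcomm : c * ((g0 : G) * x * (g0 : G)⁻¹) = ((g0 : G) * x * (g0 : G)⁻¹) * c := by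
      rw [← hj', hc]
      have h1 : Commute (A ^ 2 ^ (k - 2)) (A ^ i) := (Commute.refl A).pow_left _ |>.zpow_right i
      have h2 : Commute (A ^ 2 ^ (k - 2)) (u ^ j) := by
        rw [← hAz, ← zpow_natCast A (2 ^ (k - 1)), ← zpow_mul]
        exact (Commute.refl A).pow_left _ |>.zpow_right _
      exact (h1.mul_right h2).eq
    exact hP.eq_or_eq_mul (P.pow_mem hA _) hmemP hcc hsq hcomm
  obtain ⟨g, hg, h1⟩ := key a ha haa
  obtain ⟨h, hh, h2⟩ := key b hb hbb
  obtain ⟨m, hm, hmm, hmc⟩ := hP.partner (P.pow_mem hA (2 ^ (k - 2))) hcc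
  have hflip : ∃ g' ∈ K, g' * a * g'⁻¹ = h * b * h⁻¹ := by
    rcases eq_or_ne (g * a * g⁻¹) (h * b * h⁻¹) with e | e
    · exact ⟨g, hg, e⟩
    refine ⟨m * g, K.mul_mem (hPK hm) hg, ?_⟩
    have hmc' : m * c * m⁻¹ = c * u := by
      rw [mul_inv_eq_iff_eq_mul, hmc, mul_assoc, hP.comm_z hm, ← mul_assoc]
    have hmc2 : m * (c * u) * m⁻¹ = c := by
      calc m * (c * u) * m⁻¹ = (m * c * m⁻¹) * (m * u * m⁻¹) := by group
        _ = c * (u * u) := by rw [hmc', hP.comm_z hm, mul_inv_cancel_right, mul_assoc]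
        _ = c := by rw [hu, mul_one]
    have e1 : (m * g) * a * (m * g)⁻¹ = m * (g * a * g⁻¹) * m⁻¹ := by group
    rw [e1]
    rcases h1 with h1 | h1 <;> rcases h2 with h2 | h2 <;> rw [h1, h2] at e ⊢
    · exact absurd rfl e
    · exact hmc'
    · exact hmc2
    · exact absurd rfl e
  obtain ⟨g', hg', e⟩ := hflip
  refine ⟨h⁻¹ * g', K.mul_mem (K.inv_mem hh) hg', ?_⟩
  have e1 : (h⁻¹ * g') * a * (h⁻¹ * g')⁻¹ = h⁻¹ * (g' * a * g'⁻¹) * h := by group
  rw [e1, e]; group

end Cfsg.Agent.H13.Intrinsic
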