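import Cfsg.Agent.H13.Intrinsic.Lift

/-!
Small tools: conjugate subgroups, congruences modulo the odd core of an element centralizer.
-/

set_option autoImplicit false
set_option linter.style.haveILetI false

namespace Cfsg.Agent.H13.Intrinsic

open Subgroup

variable {G : Type*} [Group G]

theorem cj_inj {g : G} {A B : Subgroup G} (h : cj g A = cj g B) : A = B :=
  Subgroup.map_injective (MulAut.conj g).injective h

theorem cj_comm {a b : G} (h : a * b = b * a) (A : Subgroup G) : cj a (cj b A) = cj b (cj a A) := by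
  rw [← cj_mul, h, cj_mul]

/-- Elements of a Sylow 2-subgroup lying in two 2-components are central. -/
theorem shared [Finite G] {z : G} {M M' : Subgroup G} (hM : Intr z M) (hM' : Intr z M')
    (hne : M ≠ M') {P : Subgroup G} (hP : IsPGroup 2 P) {a : G} (haP : a ∈ P) (ha : a ∈ M)
    (ha' : a ∈ M') : a = 1 ∨ a = z := by
  obtain ⟨Q, hQ, hle⟩ := exists_syl (z := z) (hP.to_le (inf_le_left : P ⊓ cen z ≤ P)) inf_le_right
  have hqs := (hM.qgrp hQ).1
  by_contra h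
  push Not at h
  obtain ⟨n, hn⟩ := hqs.exists_pow_four ⟨hle ⟨haP, hM.le ha⟩, ha⟩ h.1 h.2
  exact hne (hM.eq_of_four hM' hP (P.pow_mem haP n) (M.pow_mem ha n) (M'.pow_mem ha' n) hn)

/-- Two-elements common to 2-components of two different involution centralizers are trivial. -/
theorem meet [Finite G] {z u : G} {J K : Subgroup G} (hJ : Intr z J) (hK : Intr u K) (hne : z ≠ u)
    {P : Subgroup G} (hP : Syl z P) {b : G} (hbP : b ∈ P) (hbJ : b ∈ J) (hbK : b ∈ K) : b = 1 := by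
  have hzK : z ∉ K := fun h => by
    rcases hK.uniq z h hJ.sq with e | e
    · exact hJ.ne e
    · exact hne e
  by_contra h
  have hb : b ≠ z := by
    rintro rfl
    exact hzK hbK
  obtain ⟨n, hn⟩ := ((hJ.qgrp hP).1).exists_pow_four ⟨hbP, hbJ⟩ h hb
  apply hzK
  rw [← hn]
  exact K.mul_mem (K.pow_mem hbK n) (K.pow_mem hbK n)

theorem isP_zpowers {y : G} {k : ℕ} (hk : y ^ 2 ^ k = 1) : IsPGroup 2 ↥(zpowers y) := by
  intro g
  obtain ⟨g, hg⟩ := g
  obtain ⟨i, rfl⟩ := mem_zpowers_iff.1 hg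
  refine ⟨k, Subtype.ext ?_⟩
  show (y ^ i) ^ 2 ^ k = 1
  rw [← zpow_natCast, ← zpow_mul, mul_comm, zpow_mul, zpow_natCast, hk, one_zpow]

theorem core_conj {z g o : G} (hg : g ∈ cen z) (ho : o ∈ core z) : g * o * g⁻¹ ∈ core z := by
  obtain ⟨o, ho, rfl⟩ := ho
  exact ⟨⟨g, hg⟩ * o * ⟨g, hg⟩⁻¹,
    (Cfsg.pPrimeCore_normal 2 ↥(cen z)).conj_mem o ho ⟨g, hg⟩, rfl⟩

/-- The natural map of `C(u)` modulo its odd core. -/
abbrev qc (u : G) : ↥(cen u) →* ↥(cen u) ⧸ Cfsg.pPrimeCore 2 ↥(cen u) :=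
  Components.qmap 2 ↥(cen u)

theorem qc_eq_iff {u : G} {a b : ↥(cen u)} : qc u a = qc u b ↔ (a : G)⁻¹ * b ∈ core u := by
  rw [qc, Components.qmap, QuotientGroup.mk'_apply, QuotientGroup.mk'_apply, QuotientGroup.eq]
  constructor
  · intro h
    exact ⟨a⁻¹ * b, h, by simp⟩
  · rintro ⟨o, ho, hoe⟩
    rwa [show a⁻¹ * b = o from Subtype.ext (by simpa using hoe.symm)]

theorem qc_exact [Finite G] {u : G} {P : Subgroup G} (hP : IsPGroup 2 P) {a b : ↥(cen u)}
    (ha : (a : G) ∈ P) (hb : (b : G) ∈ P) (h : qc u a = qc u b) : (a : G) = b :=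
  inv_mul_eq_one.1 (eq_one_of_two_of_core hP (P.mul_mem (P.inv_mem ha) hb) (qc_eq_iff.1 h))

theorem qc_comm [Finite G] {u : G} {M M' : Subgroup G} (hM : Intr u M) (hM' : Intr u M')
    (hne : M ≠ M') {a b : ↥(cen u)} (ha : (a : G) ∈ M) (hb : (b : G) ∈ M') :
    qc u a * qc u b = qc u b * qc u a := by
  rw [← map_mul, ← map_mul, qc_eq_iff]
  have h := hM.comm_le hM' hne _ (M.inv_mem ha) _ (M'.inv_mem hb)
  rw [← (core u).inv_mem_iff]
  convert h using 1
  simp only [Subgroup.coe_mul]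
  group

/-- Involutions congruent modulo an odd normal subgroup are conjugate by an element of it. -/
theorem core_conj_involution [Finite G] {u a b : G} (ha : a * a = 1) (hb : b * b = 1)
    (h : a⁻¹ * b ∈ core u) : ∃ o ∈ core u, o * a * o⁻¹ = b := by
  have hainv : a⁻¹ = a := inv_eq_of_mul_eq_one_right ha
  have hbinv : b⁻¹ = b := inv_eq_of_mul_eq_one_right hb
  rw [hainv] at h
  set o := a * b with ho
  obtain ⟨m, hm⟩ : Odd (orderOf o) :=
    (odd_core u).of_dvd_nat (Subgroup.orderOf_dvd_natCard (core u) h)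
  have hinv : a * o * a⁻¹ = o⁻¹ := by
    rw [ho, mul_inv_rev, hbinv, hainv, ← mul_assoc a a b, ha, one_mul]
  have hpow : a * o ^ (m + 1) = (o ^ (m + 1))⁻¹ * a := by
    rw [← inv_pow, ← hinv, conj_pow]
    group
  refine ⟨(o ^ (m + 1))⁻¹, inv_mem (pow_mem h _), ?_⟩
  rw [← hpow, inv_inv, mul_assoc, ← pow_add,
    show m + 1 + (m + 1) = (2 * m + 1) + 1 from by omega, pow_succ, ← hm, pow_orderOf_eq_one,
    one_mul, ho, ← mul_assoc, ha, one_mul]

/-- A 2-group of a quotient by the odd core lifts to a 2-group above a given one. -/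
theorem lift_two [Finite G] {u : G} {T : Subgroup G} (hT : IsPGroup 2 T) (hTu : T ≤ cen u)
    {H : Subgroup (↥(cen u) ⧸ Cfsg.pPrimeCore 2 ↥(cen u))} (hH : IsPGroup 2 H)
    (hTH : ∀ t, ∀ ht : t ∈ T, qc u ⟨t, hTu ht⟩ ∈ H) :
    ∃ R : Subgroup G, IsPGroup 2 R ∧ R ≤ cen u ∧ T ≤ R ∧
      ∀ h ∈ H, ∃ r, ∃ hr : r ∈ cen u, r ∈ R ∧ qc u ⟨r, hr⟩ = h := by
  haveI : Fact (Nat.Prime 2) := ⟨Nat.prime_two⟩
  set H' := H.comap (qc u) with hH'
  have hTH' : T.subgroupOf (cen u) ≤ H' := fun t ht => hTH t ht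
  obtain ⟨S, hS⟩ := ((hT.comap_subtype (K := cen u)).comap_subtype (K := H')).exists_le_sylow
  let f : ↥H' →* ↥H := (qc u).subgroupComap H
  have hf : Function.Surjective f :=
    MonoidHom.subgroupComap_surjective_of_surjective _ _ Components.qmap_surjective
  have htop : ∀ x : ↥H, x ∈ (S.mapSurjective hf : Sylow 2 ↥H) := by
    have h1 := (S.mapSurjective hf).is_maximal' (hH.of_equiv Subgroup.topEquiv.symm) le_top
    exact fun x => h1.le (Subgroup.mem_top x)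
  refine ⟨((S : Subgroup ↥H').map H'.subtype).map (cen u).subtype, (S.isPGroup'.map _).map _,
    Subgroup.map_subtype_le _, fun t ht => ?_, fun h hh => ?_⟩
  · exact ⟨⟨t, hTu ht⟩, ⟨⟨⟨t, hTu ht⟩, hTH' ht⟩, hS ht, rfl⟩, rfl⟩
  · obtain ⟨s, hs, hse⟩ := htop ⟨h, hh⟩
    exact ⟨_, (s : ↥(cen u)).2, ⟨_, ⟨s, hs, rfl⟩, rfl⟩, congrArg Subtype.val hse⟩

end Cfsg.Agent.H13.Intrinsic
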