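import Cfsg.Agent.H13.Intrinsic.One
import Cfsg.Agent.H13.Intrinsic.Bar
import Cfsg.Agent.H47.LBalance

/-!
If `z` normalises `K` then `u` normalises `J`.
-/

set_option autoImplicit false
set_option linter.style.haveILetI false

namespace Cfsg.Agent.H13.Intrinsic

open Subgroup
open scoped commutatorElement

variable {G : Type*} [Group G] [Finite G] {u z : G} {J K : Subgroup G}

omit [Finite G] in
theorem subgroupOf_perfect {L H : Subgroup G} (hle : L ≤ H) (h : ⁅L, L⁆ = L) :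
    ⁅L.subgroupOf H, L.subgroupOf H⁆ = L.subgroupOf H := by
  apply Subgroup.map_injective H.subtype_injective
  rw [Subgroup.map_commutator, Subgroup.map_subgroupOf_eq_of_le hle, h]

theorem pLayerOf_perfect (H : Subgroup G) :
    ⁅Cfsg.pLayerOf 2 H, Cfsg.pLayerOf 2 H⁆ = Cfsg.pLayerOf 2 H := by
  haveI : Fact (Nat.Prime 2) := ⟨Nat.prime_two⟩
  rw [Cfsg.pLayerOf, ← Subgroup.map_commutator, Components.pLayer_perfect]

/-- The layer is inside `C̄ C(C̄)` for a component `C̄`. -/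
theorem layer_le_sup {X : Type*} [Group X] [Finite X] {A : Subgroup X} (hA : Cfsg.IsComponent A) :
    Cfsg.layer X ≤ A ⊔ centralizer (A : Set X) := by
  refine Components.layer_le_iff.mpr fun C hC => ?_
  by_cases h : C = A
  · exact h ▸ le_sup_left
  · exact le_trans (Subgroup.commutator_eq_bot_iff_le_centralizer.1
      (Components.components_commute hC hA h)) le_sup_right

/-- The image in `C(u)/O` of an element of the 2-layer lies in the layer. -/
theorem qc_mem_layer {x : G} (hx : x ∈ cen u) (h : x ∈ Cfsg.pLayerOf 2 (cen u)) :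
    qc u ⟨x, hx⟩ ∈ Cfsg.layer _ := by
  haveI : Fact (Nat.Prime 2) := ⟨Nat.prime_two⟩
  rw [← Components.map_pLayer]
  obtain ⟨g, hg, e⟩ := h
  exact ⟨g, hg, congrArg (qc u) (Subtype.ext e : g = (⟨x, hx⟩ : ↥(cen u)))⟩

/-- An element of the 2-layer of `C(u) ∩ C(z)` centralises `K` modulo the core as soon as `z`
normalises `K` and commutes with no element of order 4 of `K`. -/
theorem fixed_centralizes (hK : Intr u K) (hzz : z * z = 1) (hzu : z ∈ cen u)
    (hzK : z ∈ normalizer (K : Set G))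
    (hno : ∀ e ∈ K, e * e = u → ¬ Commute e z) {v : G} (hv : v ∈ cen u) (hvv : v * v = 1)
    (hvL : v ∈ Cfsg.pLayerOf 2 (cen u ⊓ cen z)) {p : G} (hp : p ∈ K) :
    Commute (qc u ⟨v, hv⟩) (qc u ⟨p, hK.le hp⟩) := by
  haveI : Fact (Nat.Prime 2) := ⟨Nat.prime_two⟩
  set q := qc u with hq
  set A := bar u K with hA
  set Z := q ⟨z, hzu⟩ with hZ
  have hZn : Z ∈ normalizer (A : Set _) := by
    refine Components.mem_normalizer_of_map_conj_eq ?_
    rw [hA, Subgroup.map_map]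
    have e1 : ((MulAut.conj Z).toMonoidHom).comp q =
        q.comp (MulAut.conj (⟨z, hzu⟩ : ↥(cen u))).toMonoidHom := by
      ext s
      simp [hZ]
    rw [e1, ← Subgroup.map_map, Components.map_conj_eq_of_mem_normalizer]
    exact Subgroup.le_normalizer_comap _ hzK
  set L := Cfsg.pLayerOf 2 (cen u ⊓ cen z) with hL
  have hLle : L ≤ cen u ⊓ cen z := Subgroup.map_subtype_le _
  set V := (L.subgroupOf (cen u)).map q with hV
  have hVp : ⁅V, V⁆ = V := by
    rw [hV, ← Subgroup.map_commutator,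
      subgroupOf_perfect (hLle.trans inf_le_left) (pLayerOf_perfect _)]
  have hVlayer : V ≤ A ⊔ centralizer (A : Set _) := by
    refine le_trans ?_ (layer_le_sup (bar_comp hK))
    rintro _ ⟨s, hs, rfl⟩
    exact qc_mem_layer s.2 (balance hzz hzu hs)
  have hVZ : ∀ e ∈ V, Commute Z e := by
    rintro _ ⟨s, hs, rfl⟩
    show q ⟨z, hzu⟩ * q s = q s * q ⟨z, hzu⟩
    rw [← map_mul, ← map_mul]
    exact congrArg q (Subtype.ext (mem_cen.1 (hLle hs).2).symm)
  have hmem : q ⟨v, hv⟩ ∈ (A ⊓ centralizer ({Z} : Set _)) ⊔ centralizer (A : Set _) :=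
    le_fixed_sup hZn hVp hVlayer hVZ ⟨⟨v, hv⟩, hvL, rfl⟩
  have hn : centralizer (A : Set (↥(cen u) ⧸ Cfsg.pPrimeCore 2 ↥(cen u))) ≤
      normalizer ((A ⊓ centralizer ({Z} : Set (↥(cen u) ⧸ Cfsg.pPrimeCore 2 ↥(cen u))) :
        Subgroup (↥(cen u) ⧸ Cfsg.pPrimeCore 2 ↥(cen u))) :
        Set (↥(cen u) ⧸ Cfsg.pPrimeCore 2 ↥(cen u))) := by
    intro c hc
    refine Components.mem_normalizer_of_map_conj_eq (le_antisymm ?_ ?_)
    · rintro _ ⟨s, hs, rfl⟩
      show c * s * c⁻¹ ∈ _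
      rw [← mem_centralizer_iff.1 hc s hs.1, mul_inv_cancel_right]
      exact hs
    · intro s hs
      exact ⟨s, hs, by show c * s * c⁻¹ = s; rw [← mem_centralizer_iff.1 hc s hs.1, mul_inv_cancel_right]⟩
  obtain ⟨k, ⟨hkA, hkZ⟩, c, hc, hkc⟩ := (Coprime.mem_sup_iff hn).1 hmem
  have hcm : Commute k c := mem_centralizer_iff.1 hc k hkA
  obtain ⟨a, m, hm, hkm⟩ := Nat.exists_eq_two_pow_mul_odd (orderOf_pos k).ne'
  have hf : (k ^ m) ^ 2 ^ a = 1 := by
    rw [← pow_mul, mul_comm, ← hkm, pow_orderOf_eq_one]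
  have hfA : k ^ m ∈ A := A.pow_mem hkA m
  obtain ⟨r, hr, hrK, hqr, hrc, b, hb⟩ := exists_lift hK (isP_zpowers (k := 1) (by
      rw [pow_one, pow_two, hzz] : z ^ 2 ^ 1 = 1)) (zpowers_le.2 hzu) hfA hf (fun t ht => by
    obtain ⟨i, hi⟩ := mem_zpowers_iff.1 ht
    subst hi
    have e : (⟨z ^ i, (zpowers_le.2 hzu) ht⟩ : ↥(cen u)) = ⟨z, hzu⟩ ^ i := Subtype.ext (by simp)
    rw [e, map_zpow]
    exact ((show Commute k Z from mem_centralizer_singleton_iff.1 hkZ).pow_left m).zpow_right i)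
  have hr1 : r = 1 ∨ r = u := by
    by_contra h
    push Not at h
    obtain ⟨R, hR, hRle⟩ := exists_syl (z := u) (isP_zpowers hb) (zpowers_le.2 hr)
    obtain ⟨n, hn'⟩ := (hK.qgrp hR).1.exists_pow_four (a := r) ⟨hRle (mem_zpowers r), hrK⟩ h.1 h.2
    exact hno _ (K.pow_mem hrK n) hn' ((hrc z (mem_zpowers z)).pow_left n)
  have hqp : q ⟨p, hK.le hp⟩ ∈ A := ⟨_, hp, rfl⟩
  have hf1 : Commute (k ^ m) (q ⟨p, hK.le hp⟩) := by
    rcases hr1 with e | e
    · rw [← hqr, show (⟨r, hr⟩ : ↥(cen u)) = 1 from Subtype.ext e, map_one]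
      exact Commute.one_left _
    · show k ^ m * q ⟨p, hK.le hp⟩ = q ⟨p, hK.le hp⟩ * k ^ m
      rw [← hqr, ← map_mul, ← map_mul]
      exact congrArg q (Subtype.ext (by
        show r * p = p * r
        rw [e]; exact (mem_cen.1 (hK.le hp)).symm))
  have hc1 : Commute (c ^ m) (q ⟨p, hK.le hp⟩) :=
    Commute.pow_left (mem_centralizer_iff.1 hc _ hqp).symm m
  have hsq : q ⟨v, hv⟩ ^ m = q ⟨v, hv⟩ := by
    obtain ⟨j, rfl⟩ := hm
    have h2 : q ⟨v, hv⟩ ^ 2 = 1 := by
      rw [← map_pow, show (⟨v, hv⟩ : ↥(cen u)) ^ 2 = 1 from Subtype.ext (by simpa [pow_two] using hvv),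
        map_one]
    rw [pow_succ, pow_mul, h2, one_pow, one_mul]
  rw [← hsq, ← hkc, hcm.mul_pow]
  exact hf1.mul_left hc1

/-- The counting argument: a central involution of a 2-component of another centralizer, acting on
`J` as an element of order 4 of `J`, is impossible. -/
theorem no_big_action (hJ : Intr z J) {t : G} {M : Subgroup G} (hM : Intr t M) (hzt : z ∈ cen t)
    (hzM : ∀ p ∈ M, z * p * z⁻¹ * p⁻¹ ∈ core t)
    (hcard : Nat.card ↥(bar z J) = Nat.card ↥(bar t M)) {P : Subgroup G} (hP : Syl z P)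
    {c : G} (hc : c ∈ P ⊓ J) (hcc : c * c = z) {tz : t ∈ cen z}
    (hact : ∀ j ∈ bar z J, qc z ⟨t, tz⟩ * j * (qc z ⟨t, tz⟩)⁻¹ =
      qc z ⟨c, hJ.le hc.2⟩ * j * (qc z ⟨c, hJ.le hc.2⟩)⁻¹) : False := by
  haveI : Fact (Nat.Prime 2) := ⟨Nat.prime_two⟩
  obtain ⟨c', hc', -, hc'c⟩ := ((hJ.qgrp hP).1).partner hc hcc
  set A := bar z J with hA
  set B := bar t M with hB
  set zt : ↥(cen t) := ⟨z, hzt⟩
  set D := centralizer ({qc t zt} : Set (↥(cen t) ⧸ Cfsg.pPrimeCore 2 ↥(cen t)))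
  have hzB : ∀ b ∈ B, Commute (qc t zt) b := by
    rintro _ ⟨s, hs, rfl⟩
    show qc t zt * qc t s = qc t s * qc t zt
    rw [← map_mul, ← map_mul, qc_eq_iff, ← (core t).inv_mem_iff]
    have h := hzM (s : G)⁻¹ (M.inv_mem hs)
    convert h using 1
    have hzinv : z⁻¹ = z := inv_eq_of_mul_eq_one_right hJ.sq
    simp only [Subgroup.coe_mul, zt, mul_inv_rev, inv_inv, hzinv, mul_assoc]
  have hBD : B ≤ D := fun b hb => mem_centralizer_singleton_iff.2 (hzB b hb).symm.eq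
  set P2 := Components.pElemClosure 2 (M ⊓ cen z) with hP2
  have hP2M : P2 ≤ M ⊓ cen z := Components.pElemClosure_le_self _
  have hgen : ∀ x ∈ M ⊓ cen z, ∀ k : ℕ, x ^ 2 ^ k = 1 → x ∈ Cfsg.pLayerOf 2 (cen z) := by
    intro x hx k hk
    have h : x ∈ Cfsg.pLayerOf 2 (cen t ⊓ cen z) := by
      refine lift hJ.sq hzt (hM.le hx.1) hx.2 hk ?_
      have hb : qc t ⟨x, hM.le hx.1⟩ ∈ B := ⟨_, hx.1, rfl⟩
      exact ⟨⟨_, hBD hb⟩, Components.component_le_layer
        (Components.component_subgroupOf (bar_comp hM) hBD) hb, rfl⟩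
    rw [inf_comm] at h
    exact balance hM.sq tz h
  have hP2L : P2 ≤ Cfsg.pLayerOf 2 (cen z) :=
    (closure_le _).2 fun x ⟨hx, k, hk⟩ => hgen x hx k hk
  have hP2z : P2 ≤ cen z := hP2M.trans inf_le_right
  have hP2t : P2 ≤ cen t := (hP2M.trans inf_le_left).trans hM.le
  -- the action on `A`
  have hPN : ∀ x : ↥P2, qc z (inclusion hP2z x) ∈ normalizer (A : Set _) := fun x =>
    Components.layer_le_normalizer_component (bar_comp hJ) (qc_mem_layer _ (hP2L x.2))
  let f : ↥P2 →* ↥(normalizer (A : Set (↥(cen z) ⧸ Cfsg.pPrimeCore 2 ↥(cen z)))) :=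
    ((qc z).comp (inclusion hP2z)).codRestrict _ hPN
  let ρ : ↥P2 →* MulAut ↥A := A.normalizerMonoidHom.comp f
  have hρ : ∀ (x : ↥P2) (j : ↥A), (((ρ x) j : ↥A) : ↥(cen z) ⧸ Cfsg.pPrimeCore 2 ↥(cen z)) =
      qc z (inclusion hP2z x) * (j : ↥(cen z) ⧸ Cfsg.pPrimeCore 2 ↥(cen z)) *
        (qc z (inclusion hP2z x))⁻¹ := fun x j => rfl
  let ι : ↥A →* MulAut ↥A := MulAut.conj
  have hrange : ρ.range ≤ ι.range := by
    rintro _ ⟨x, rfl⟩
    have hx : qc z (inclusion hP2z x) ∈ A ⊔ centralizer (A : Set _) :=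
      layer_le_sup (bar_comp hJ) (qc_mem_layer _ (hP2L x.2))
    have hn : centralizer (A : Set (↥(cen z) ⧸ Cfsg.pPrimeCore 2 ↥(cen z))) ≤
        normalizer (A : Set _) := fun g hg => by
      refine Components.mem_normalizer_of_map_conj_eq (le_antisymm ?_ ?_)
      · rintro _ ⟨s, hs, rfl⟩
        show g * s * g⁻¹ ∈ A
        rw [← mem_centralizer_iff.1 hg s hs, mul_inv_cancel_right]
        exact hs
      · intro s hs
        exact ⟨s, hs, by show g * s * g⁻¹ = s; rw [← mem_centralizer_iff.1 hg s hs, mul_inv_cancel_right]⟩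
    obtain ⟨k, hk, g, hg, hkg⟩ := (Coprime.mem_sup_iff hn).1 hx
    refine ⟨⟨k, hk⟩, MulEquiv.ext fun j => Subtype.ext ?_⟩
    rw [hρ, ← hkg]
    show k * j * k⁻¹ = k * g * j * (k * g)⁻¹
    have h : g * (j : ↥(cen z) ⧸ Cfsg.pPrimeCore 2 ↥(cen z)) = j * g := (mem_centralizer_iff.1 hg _ j.2).symm
    rw [mul_inv_rev, mul_assoc k g, h]
    group
  have hιker : ι.ker = center ↥A := by
    ext g
    rw [MonoidHom.mem_ker, mem_center_iff]
    constructor
    · intro h j
      have := congrArg (fun e : MulAut ↥A => e j) h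
      exact (mul_inv_eq_iff_eq_mul.1 (by simpa [ι] using this)).symm
    · intro h
      refine MulEquiv.ext fun j => ?_
      show g * j * g⁻¹ = j
      rw [← h j, mul_inv_cancel_right]
  -- the image in `C(t)/O`
  have hfB : ∀ x : ↥P2, qc t (inclusion hP2t x) ∈ B := fun x => ⟨_, (hP2M x.2).1, rfl⟩
  let g : ↥P2 →* ↥B := ((qc t).comp (inclusion hP2t)).codRestrict _ hfB
  have hg : Function.Surjective g := by
    intro b
    have hle : B ≤ g.range.map B.subtype := by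
      refine (Components.pElemClosure_component Components.pPrimeCore_quotient_eq_bot
        (bar_comp hM) (p := 2)).ge.trans ((closure_le _).2 ?_)
      rintro s ⟨hs, k, hk⟩
      obtain ⟨r, hr, hrM, hqr, hrc, k', hk'⟩ := exists_lift hM (isP_zpowers (k := 1) (by
          rw [pow_one, pow_two, hJ.sq] : z ^ 2 ^ 1 = 1)) (zpowers_le.2 hzt) hs hk (fun w hw => by
        obtain ⟨i, hi⟩ := mem_zpowers_iff.1 hw
        subst hi
        rw [show (⟨z ^ i, (zpowers_le.2 hzt) hw⟩ : ↥(cen t)) = zt ^ i from Subtype.ext (by simp [zt]),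
          map_zpow]
        exact (hzB s hs).symm.zpow_right i)
      have hrP : r ∈ P2 := Components.mem_pElemClosure
        ⟨hrM, mem_cen.2 (hrc z (mem_zpowers z)).eq⟩ hk'
      exact ⟨_, ⟨⟨r, hrP⟩, rfl⟩, hqr⟩
    obtain ⟨y, ⟨x, rfl⟩, hy⟩ := hle b.2
    exact ⟨x, Subtype.ext hy⟩
  haveI : ((ρ.ker).map g).Normal := (inferInstance : ρ.ker.Normal).map g hg
  have htP2 : t ∈ P2 := Components.mem_pElemClosure (k := 1) ⟨hM.mem, tz⟩
    (by rw [pow_one, pow_two, hM.sq])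
  set T : ↥P2 := ⟨t, htP2⟩
  have hTc : ∀ x : ↥P2, x * T = T * x := fun x => Subtype.ext (mem_cen.1 (hP2t x.2))
  let cA : ↥A := ⟨qc z ⟨c, hJ.le hc.2⟩, ⟨_, hc.2, rfl⟩⟩
  have hρT : ρ T = ι cA := MulEquiv.ext fun j => Subtype.ext (hact j j.2)
  have hncen : ¬ (∀ j : ↥A, cA * j = j * cA) := by
    intro h
    have h' := h ⟨qc z ⟨c', hJ.le hc'.2⟩, ⟨_, hc'.2, rfl⟩⟩
    have h'' : qc z (⟨c, hJ.le hc.2⟩ * ⟨c', hJ.le hc'.2⟩) =
        qc z (⟨c', hJ.le hc'.2⟩ * ⟨c, hJ.le hc.2⟩) := by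
      rw [map_mul, map_mul]; exact congrArg Subtype.val h'
    have e := qc_exact hP.isP (P.mul_mem hc.1 hc'.1) (P.mul_mem hc'.1 hc.1) h''
    change c * c' = c' * c at e
    rw [← e] at hc'c
    exact hJ.ne (mul_eq_left.1 hc'c.symm)
  by_cases htop : (ρ.ker).map g = ⊤
  · have hT : ρ T = 1 := by
      have hall : P2 ≤ ρ.ker.map P2.subtype := by
        refine (closure_le _).2 ?_
        rintro x ⟨hx, k, hk⟩
        have hxP : x ∈ P2 := Components.mem_pElemClosure hx hk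
        obtain ⟨n, hn, hne⟩ := htop.ge (Subgroup.mem_top (g ⟨x, hxP⟩))
        refine ⟨⟨x, hxP⟩, ?_, rfl⟩
        set o : ↥P2 := n⁻¹ * ⟨x, hxP⟩ with ho
        have hocore : (o : G) ∈ core t := by
          have h : qc t (inclusion hP2t n) = qc t (inclusion hP2t ⟨x, hxP⟩) :=
            congrArg Subtype.val hne
          exact qc_eq_iff.1 h
        have h1 : orderOf (ρ ⟨x, hxP⟩) ∣ 2 ^ k := by
          rw [orderOf_dvd_iff_pow_eq_one, ← map_pow,
            show (⟨x, hxP⟩ : ↥P2) ^ 2 ^ k = 1 from Subtype.ext hk, map_one]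
        have h2 : orderOf (ρ ⟨x, hxP⟩) ∣ orderOf (o : G) := by
          rw [Subgroup.orderOf_coe]
          have e : ρ ⟨x, hxP⟩ = ρ o := by rw [ho, map_mul, map_inv, MonoidHom.mem_ker.1 hn, inv_one, one_mul]
          rw [e]
          exact orderOf_map_dvd ρ o
        have h3 : (orderOf (o : G)).Coprime (2 ^ k) :=
          (Nat.coprime_two_right.2 ((odd_core t).of_dvd_nat
            (Subgroup.orderOf_dvd_natCard (core t) hocore))).pow_right k
        exact orderOf_eq_one_iff.1 (Nat.eq_one_of_dvd_coprimes h3 h2 h1)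
      obtain ⟨x, hx, hxe⟩ := hall htP2
      rw [show T = x from Subtype.ext hxe.symm]
      exact hx
    rw [hρT] at hT
    refine hncen fun j => ?_
    have := mem_center_iff.1 (hιker.le (MonoidHom.mem_ker.2 hT : cA ∈ ι.ker)) j
    exact this.symm
  · have hcen : (ρ.ker).map g ≤ center ↥B := Components.qs_normal_le_center (bar_comp hM).2 _ htop
    have h1 : Nat.card (↥B ⧸ center ↥B) ∣ ρ.ker.index := by
      let φ : ↥P2 ⧸ ρ.ker →* ↥B ⧸ center ↥B := QuotientGroup.lift _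
        ((QuotientGroup.mk' (center ↥B)).comp g) (fun x hx => by
          rw [MonoidHom.mem_ker, MonoidHom.comp_apply]
          exact (QuotientGroup.eq_one_iff _).2 (hcen ⟨x, hx, rfl⟩))
      have hφ : Function.Surjective φ := by
        intro b
        obtain ⟨b, rfl⟩ := QuotientGroup.mk'_surjective _ b
        obtain ⟨x, rfl⟩ := hg b
        exact ⟨QuotientGroup.mk x, rfl⟩
      exact Subgroup.card_dvd_of_surjective φ hφ
    have hcq : Nat.card ι.range = Nat.card (↥B ⧸ center ↥B) := by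
      have e1 := Subgroup.card_eq_card_quotient_mul_card_subgroup (center ↥A)
      have e2 := Subgroup.card_eq_card_quotient_mul_card_subgroup (center ↥B)
      rw [center_card hJ] at e1
      rw [center_card hM, ← hcard] at e2
      rw [← Nat.card_congr (QuotientGroup.quotientKerEquivRange ι).toEquiv,
        Nat.card_congr (QuotientGroup.quotientMulEquivOfEq hιker).toEquiv]
      exact Nat.eq_of_mul_eq_mul_right (by norm_num) (e1.symm.trans e2)
    have h2 : ρ.ker.index = Nat.card ρ.range :=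
      Nat.card_congr (QuotientGroup.quotientKerEquivRange ρ).toEquiv
    have heq : ρ.range = ι.range := Subgroup.eq_of_le_of_card_ge hrange
      (by rw [hcq]; exact Nat.le_of_dvd Nat.card_pos (h2 ▸ h1))
    have hcomm : ∀ j : ↥A, cA * j * cA⁻¹ * j⁻¹ ∈ center ↥A := by
      intro j
      obtain ⟨x, hx⟩ := heq.ge ⟨j, rfl⟩
      rw [← hιker, MonoidHom.mem_ker, map_mul, map_mul, map_mul, map_inv, map_inv, ← hρT, ← hx,
        ← map_mul, ← hTc x, map_mul, mul_inv_cancel_right, mul_inv_cancel]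
    have hcz : qc z ⟨c, hJ.le hc.2⟩ ∈ centralizer (A : Set _) := by
      refine H47.centralizes_of_center_commutator (Components.component_perfect (bar_comp hJ))
        fun j hj => ?_
      exact ⟨_, hcomm ⟨j, hj⟩, rfl⟩
    exact hncen fun j => Subtype.ext (mem_centralizer_iff.1 hcz j j.2).symm

/-- Part (ii). -/
theorem normalizes_involution (hK : Intr u K) (hJ : Intr z J)
    (hcard : Nat.card (↥J ⧸ Cfsg.pPrimeCore 2 ↥J) = Nat.card (↥K ⧸ Cfsg.pPrimeCore 2 ↥K))
    (hzK : z ∈ normalizer (K : Set G)) : u ∈ normalizer (J : Set G) := by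
  rcases eq_or_ne z u with e | hzu
  · subst e
    exact hJ.le_normalizer hK hK.mem
  by_contra hcon
  have huinv : u⁻¹ = u := inv_eq_of_mul_eq_one_right hK.sq
  have hzinv : z⁻¹ = z := inv_eq_of_mul_eq_one_right hJ.sq
  have huz : Commute u z := by
    have h1 : z * u * z⁻¹ ∈ K := (mem_normalizer_iff.1 hzK u).1 hK.mem
    have h2 : (z * u * z⁻¹) * (z * u * z⁻¹) = 1 := by
      rw [show z * u * z⁻¹ * (z * u * z⁻¹) = z * (u * u) * z⁻¹ by group, hK.sq]
      group
    rcases hK.uniq _ h1 h2 with e | e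
    · exact absurd (conj_eq_one_iff.1 e) hK.ne
    · exact (mul_inv_eq_iff_eq_mul.1 e).symm
  have hno : ∀ e ∈ K, e * e = u → ¬ Commute e z := by
    intro e he hee hez
    apply hcon
    rw [← hee]
    have hN := normalizes hK hJ 2 e he
      (by rw [show (2 : ℕ) ^ 2 = 2 + 2 from rfl, pow_add, pow_two, hee, hK.sq])
      (by rw [hee]; exact hK.ne) hez.eq
    exact mul_mem hN hN
  have hucen : u ∈ cen z := mem_cen.2 huz.eq
  have hzcen : z ∈ cen u := mem_cen.2 huz.symm.eq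
  have hu2 : u ^ 2 ^ 1 = 1 := by rw [pow_one, pow_two, hK.sq]
  obtain ⟨P, hP, hle⟩ := exists_syl (z := z) (isP_zpowers hu2) (zpowers_le.2 hucen)
  have huP : u ∈ P := hle (mem_zpowers u)
  obtain ⟨c, hc, hcc⟩ := ((hJ.qgrp hP).1).exists_four
  have hmove : cj u J ≠ J := fun e => hcon (cj_eq_iff.1 e)
  have hJ2 := hJ.conj_cen hucen
  set ĉ := u * c * u with hĉ
  have hĉP : ĉ ∈ P := P.mul_mem (P.mul_mem huP hc.1) huP
  have hĉJ : ĉ ∈ cj u J := by
    have h := cj_mem (g := u) hc.2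
    rwa [huinv] at h
  have hcĉ : Commute c ĉ := hJ.commute hJ2 hmove.symm hP.isP hc.2 hc.1 hĉJ hĉP
  set v := c * ĉ with hv
  have hcz : Commute c z := mem_cen.1 (hJ.le hc.2)
  have hvz : Commute v z := hcz.mul_left (mem_cen.1 (hJ2.le hĉJ))
  have hvu : Commute v u := by
    show v * u = u * v
    calc v * u = c * u * c * (u * u) := by rw [hv, hĉ]; group
      _ = (u * u) * (c * u * c) := by rw [hK.sq, mul_one, one_mul]
      _ = u * (ĉ * c) := by rw [hĉ]; group
      _ = u * v := by rw [← hcĉ.eq, hv]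
  have hvv : v * v = 1 := by
    rw [hv, ← pow_two, hcĉ.mul_pow, pow_two, pow_two, hcc, hĉ,
      show u * c * u * (u * c * u) = u * (c * (u * u) * c) * u by group, hK.sq, mul_one, hcc,
      huz.eq, mul_assoc, hK.sq, mul_one, hJ.sq]
  have hvinv : v⁻¹ = v := inv_eq_of_mul_eq_one_right hvv
  have hc4 : c ^ 2 ^ 2 = 1 := by
    rw [show (2 : ℕ) ^ 2 = 2 + 2 from rfl, pow_add, pow_two, hcc, hJ.sq]
  have hvL : v ∈ Cfsg.pLayerOf 2 (cen u ⊓ cen z) := by
    rw [inf_comm]
    exact diag hJ hK.sq hucen hmove hc.2 hc4 hcĉ.eq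
  obtain ⟨R, hR, hRle⟩ := exists_syl (z := u) (hP.isP.to_le (inf_le_left : P ⊓ cen u ≤ P))
    inf_le_right
  have hzR : z ∈ R := hRle ⟨(hJ.qgrp hP).1.mem.1, hzcen⟩
  have hvcen : v ∈ cen u := mem_cen.2 hvu.eq
  have hvR : v ∈ R := hRle ⟨P.mul_mem hc.1 hĉP, hvcen⟩
  have hvK : ∀ p, ∀ hp : p ∈ K, Commute (qc u ⟨v, hvcen⟩) (qc u ⟨p, hK.le hp⟩) :=
    fun p hp => fixed_centralizes hK hJ.sq hzcen hzK hno hvcen hvv hvL hp
  obtain ⟨d, hd, hdd, hdz⟩ := ((hK.qgrp hR).1).exists_fix_or_inv hJ.sq (fun a ha => by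
    refine ⟨R.mul_mem (R.mul_mem hzR ha.1) hzR, ?_⟩
    have := (mem_normalizer_iff.1 hzK a).1 ha.2
    rwa [hzinv] at this)
  have hdu : Commute d u := mem_cen.1 (hK.le hd.2)
  have hdz' : z * d * z = d * u := by
    rcases hdz with e | e
    · refine absurd ?_ (hno d hd.2 hdd)
      show d * z = z * d
      calc d * z = z * d * z * z := by rw [e]
        _ = z * d * (z * z) := by group
        _ = z * d := by rw [hJ.sq, mul_one]
    · exact e
  have hdv : Commute d v := by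
    have h := qc_exact hR.isP (a := ⟨v, hvcen⟩ * ⟨d, hK.le hd.2⟩) (b := ⟨d, hK.le hd.2⟩ * ⟨v, hvcen⟩)
      (R.mul_mem hvR hd.1) (R.mul_mem hd.1 hvR) (by rw [map_mul, map_mul]; exact (hvK d hd.2).eq)
    exact h.symm
  have hdzd : d⁻¹ * z * d = u * z := by
    rw [mul_assoc, inv_mul_eq_iff_eq_mul]
    calc z * d = z * d * (z * z) := by rw [hJ.sq, mul_one]
      _ = (z * d * z) * z := by group
      _ = d * (u * z) := by rw [hdz', mul_assoc]
  have hdzd' : d * z * d⁻¹ = u * z := by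
    rw [mul_inv_eq_iff_eq_mul]
    calc d * z = d * (u * u) * z := by rw [hK.sq, mul_one]
      _ = (d * u) * (u * z) := by group
      _ = z * d * z * (z * u) := by rw [hdz', huz.eq]
      _ = z * d * (z * z) * u := by group
      _ = z * (d * u) := by rw [hJ.sq]; group
      _ = u * z * d := by rw [hdu.eq, ← mul_assoc, huz.eq]
  have hcuc : c * u * c⁻¹ = v * z * u := by
    have hc' : c⁻¹ = c * z := inv_eq_of_mul_eq_one_right (by rw [← mul_assoc, hcc, hJ.sq])
    calc c * u * c⁻¹ = c * (u * c) * z := by rw [hc']; group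
      _ = c * (ĉ * u) * z := by
          rw [hĉ, mul_assoc (u * c) u u, hK.sq, mul_one]
      _ = c * ĉ * (u * z) := by group
      _ = c * ĉ * (z * u) := by rw [huz.eq]
      _ = v * z * u := by rw [hv]; group
  have hcv : Commute c v := (Commute.refl c).mul_right hcĉ
  have hcuc' : c⁻¹ * u * c = z * v * u := by
    have e : u = v * z * (c * u * c⁻¹) := by
      rw [hcuc, show v * z * (v * z * u) = (v * z) * (v * z) * u by group, ← pow_two, hvz.mul_pow,
        pow_two, pow_two, hvv, hJ.sq, one_mul, one_mul]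
    calc c⁻¹ * u * c = c⁻¹ * (v * z * (c * u * c⁻¹)) * c := by rw [← e]
      _ = c⁻¹ * (v * z) * c * u := by group
      _ = z * v * u := by
          rw [mul_assoc c⁻¹ _ c, (hcv.symm.mul_left hcz.symm).eq, inv_mul_cancel_left, hvz.eq]
  set h := c * d * c⁻¹ with hh
  set t := v * z with ht
  have hhu : h * u * h⁻¹ = t := by
    calc h * u * h⁻¹ = c * (d * (c⁻¹ * u * c) * d⁻¹) * c⁻¹ := by rw [hh]; group
      _ = c * ((d * z * d⁻¹) * (d * v * d⁻¹) * (d * u * d⁻¹)) * c⁻¹ := by rw [hcuc']; group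
      _ = c * (z * (v * (u * u))) * c⁻¹ := by
          rw [hdzd', hdv.eq, hdu.eq, mul_inv_cancel_right, mul_inv_cancel_right, huz.eq,
            mul_assoc z u v, ← hvu.eq]
          group
      _ = t := by rw [hK.sq, mul_one, (hcz.mul_right hcv).eq, mul_inv_cancel_right, ht, hvz.eq]
  have hhz : h⁻¹ * z * h = v * u := by
    calc h⁻¹ * z * h = c * (d⁻¹ * (c⁻¹ * z * c) * d) * c⁻¹ := by rw [hh]; group
      _ = c * (d⁻¹ * z * d) * c⁻¹ := by rw [mul_assoc c⁻¹ z c, ← hcz.eq, inv_mul_cancel_left]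
      _ = (c * u * c⁻¹) * (c * z * c⁻¹) := by rw [hdzd]; group
      _ = v * ((z * u) * z) := by rw [hcuc, hcz.eq, mul_inv_cancel_right, ht]; group
      _ = v * u := by rw [← huz.eq, mul_assoc u, hJ.sq, mul_one]
  set M := cj h K with hM'
  have hM : Intr t M := hhu ▸ hK.conj h
  have hzt : z ∈ cen t := mem_cen.2 (hvz.symm.mul_right (Commute.refl z)).eq
  have tz : t ∈ cen z := mem_cen.2 (hvz.mul_left (Commute.refl z)).eq
  have hzM : ∀ p ∈ M, z * p * z⁻¹ * p⁻¹ ∈ core t := by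
    rintro _ ⟨p, hp, rfl⟩
    rw [← hhu]
    have e : z = h * (v * u) * h⁻¹ := by rw [← hhz]; group
    have h1 : v * u * p * (v * u)⁻¹ * p⁻¹ ∈ core u := by
      have h2 : qc u (⟨v, hvcen⟩ * ⟨p, hK.le hp⟩) = qc u (⟨p, hK.le hp⟩ * ⟨v, hvcen⟩) := by
        rw [map_mul, map_mul]; exact (hvK p hp).eq
      have h3 : (v * p)⁻¹ * (p * v) ∈ core u := qc_eq_iff.1 h2
      have h4 := core_conj (z := u) ((cen u).mul_mem hvcen (hK.le hp)) ((core u).inv_mem h3)
      convert h4 using 1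
      have e : u * p * u⁻¹ = p := by rw [← mem_cen.1 (hK.le hp), mul_inv_cancel_right]
      calc v * u * p * (v * u)⁻¹ * p⁻¹ = v * (u * p * u⁻¹) * v⁻¹ * p⁻¹ := by group
        _ = v * p * v⁻¹ * p⁻¹ := by rw [e]
        _ = _ := by group
    show z * (h * p * h⁻¹) * z⁻¹ * (h * p * h⁻¹)⁻¹ ∈ _
    rw [e]
    convert core_conj_le h h1 using 1
    group
  have hcardb : Nat.card ↥(bar z J) = Nat.card ↥(bar t M) := by
    rw [bar_card hJ, bar_card hM, card_quotient_cj, hcard]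
  refine no_big_action hJ hM hzt hzM hcardb hP hc hcc (tz := tz) ?_
  intro j hj
  obtain ⟨j, hj', rfl⟩ := hj
  let C : ↥(cen z) := ⟨c, hJ.le hc.2⟩
  let C' : ↥(cen z) := ⟨ĉ, hJ2.le hĉJ⟩
  let Z : ↥(cen z) := ⟨z, mem_cen.2 rfl⟩
  have e : (⟨t, tz⟩ : ↥(cen z)) = C * C' * Z := Subtype.ext rfl
  have h1 : Commute (qc z Z) (qc z j) := by
    show qc z Z * qc z j = qc z j * qc z Z
    rw [← map_mul, ← map_mul]
    exact congrArg _ (Subtype.ext (mem_cen.1 j.2).symm)
  have h2 : Commute (qc z j) (qc z C') := qc_comm hJ hJ2 hmove.symm hj' hĉJ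
  show qc z ⟨t, tz⟩ * qc z j * (qc z ⟨t, tz⟩)⁻¹ = qc z C * qc z j * (qc z C)⁻¹
  rw [e, map_mul, map_mul]
  calc qc z C * qc z C' * qc z Z * qc z j * (qc z C * qc z C' * qc z Z)⁻¹
      = qc z C * (qc z C' * (qc z Z * qc z j * (qc z Z)⁻¹) * (qc z C')⁻¹) * (qc z C)⁻¹ := by group
    _ = qc z C * qc z j * (qc z C)⁻¹ := by
        rw [h1.eq, mul_inv_cancel_right, ← h2.eq, mul_inv_cancel_right]

end Cfsg.Agent.H13.Intrinsic
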